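import Groth.Agent.AlgSp.K628.Artin.Point
import Mathlib.RingTheory.LocalRing.ResidueField.Ideal
import Mathlib.RingTheory.Flat.Localization
import Mathlib.AlgebraicGeometry.Pullbacks
import Mathlib.AlgebraicGeometry.Morphisms.Smooth
import Groth.Agent.S2155

/-!
# The ring theorem: the universal algebra is smooth at some point above every point of the image (helper628)
-/

set_option autoImplicit false

universe u

open TensorProduct

namespace K628.Artin

theorem exists_tensor_hom {A B C Ω : Type u} [CommRing A] [CommRing B] [CommRing C] [CommRing Ω] [Algebra A B]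
    [Algebra A C] (j : B →+* Ω) (l : C →+* Ω) (h : ∀ x, j (algebraMap A B x) = l (algebraMap A C x)) :
    ∃ F : B ⊗[A] C →+* Ω, (∀ b, F (b ⊗ₜ 1) = j b) ∧ ∀ c, F (1 ⊗ₜ c) = l c := by
  let _ : Algebra A Ω := (j.comp (algebraMap A B)).toAlgebra
  let f : B →ₐ[A] Ω := { j with commutes' := fun _ => rfl }
  let g : C →ₐ[A] Ω := { l with commutes' := fun x => (h x).symm }
  refine ⟨(Algebra.TensorProduct.lift f g (fun _ _ => Commute.all _ _)).toRingHom, fun b => ?_, fun c => ?_⟩
  · change Algebra.TensorProduct.lift f g (fun _ _ => Commute.all _ _) (b ⊗ₜ 1) = _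
    rw [Algebra.TensorProduct.lift_tmul, map_one, mul_one]
    rfl
  · change Algebra.TensorProduct.lift f g (fun _ _ => Commute.all _ _) (1 ⊗ₜ c) = _
    rw [Algebra.TensorProduct.lift_tmul, map_one, one_mul]
    rfl

section baseChange

variable {A A' C D : Type u} [CommRing A] [CommRing A'] [CommRing C] [CommRing D] [Algebra A C] [Algebra A D]
  [Algebra A A'] {d : ℕ} (c : Str d D) (φ : C →ₐ[A] c.Alg)

/-- base change of `c` -/
noncomputable abbrev cbc (A' : Type u) [CommRing A'] [Algebra A A'] : Str d (A' ⊗[A] D) :=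
  c.map (Algebra.TensorProduct.includeRight : D →ₐ[A] A' ⊗[A] D).toRingHom

/-- base change of `φ` -/
noncomputable def phibc (A' : Type u) [CommRing A'] [Algebra A A'] : A' ⊗[A] C →ₐ[A'] (cbc (A := A) c A').Alg :=
  Algebra.TensorProduct.lift (Algebra.ofId A' _)
    (mapAlg c φ (Algebra.TensorProduct.includeRight : D →ₐ[A] A' ⊗[A] D)) (fun _ _ => Commute.all _ _)

theorem coe_phibc_tmul (a : A') (x : C) (k : Fin d) :
    (cbc (A := A) c A').coe (phibc c φ A' (a ⊗ₜ x)) k = a ⊗ₜ c.coe (φ x) k := by
  rw [phibc, Algebra.TensorProduct.lift_tmul]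
  change (cbc (A := A) c A').coe (algebraMap A' (cbc (A := A) c A').Alg a * mapAlg c φ _ x) k = _
  rw [← Algebra.smul_def, Str.coe_smul, Pi.smul_apply, coe_mapAlg]
  change a • ((1 : A') ⊗ₜ[A] c.coe (φ x) k) = _
  rw [smul_tmul', smul_eq_mul, mul_one]

theorem IsUniv.baseChange (h : IsUniv c φ) : IsUniv (cbc (A := A) c A') (phibc c φ A') := by
  intro E _ _ cE φE
  let _ : Algebra A E := ((algebraMap A' E).comp (algebraMap A A')).toAlgebra
  have hst : IsScalarTower A A' E := IsScalarTower.of_algebraMap_eq fun _ => rfl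
  let ψE : C →ₐ[A] cE.Alg :=
    { φE.toRingHom.comp (Algebra.TensorProduct.includeRight : C →ₐ[A] A' ⊗[A] C).toRingHom with
      commutes' := fun r => by
        change φE (1 ⊗ₜ algebraMap A C r) = _
        have h1 : (1 : A') ⊗ₜ[A] algebraMap A C r = algebraMap A' (A' ⊗[A] C) (algebraMap A A' r) := by
          rw [Algebra.algebraMap_eq_smul_one, ← smul_tmul, Algebra.smul_def, mul_one]
          rfl
        rw [h1, φE.commutes, ← IsScalarTower.algebraMap_apply] }
  obtain ⟨t, ⟨ht1, ht2⟩, ht3⟩ := h E cE ψE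
  let T : A' ⊗[A] D →ₐ[A'] E := Algebra.TensorProduct.lift (Algebra.ofId A' E) t (fun _ _ => Commute.all _ _)
  have hT : ∀ (a : A') (y : D), T (a ⊗ₜ y) = algebraMap A' E a * t y := fun a y => by
    rw [Algebra.TensorProduct.lift_tmul]
    rfl
  have hTi : ∀ y : D, T (1 ⊗ₜ y) = t y := fun y => by rw [hT, map_one, one_mul]
  refine ⟨T, ⟨?_, ?_⟩, ?_⟩
  · have h0 : T.toRingHom.comp (Algebra.TensorProduct.includeRight : D →ₐ[A] A' ⊗[A] D).toRingHom = t.toRingHom :=
      RingHom.ext fun y => hTi y
    have h1 : (cbc (A := A) c A').map T.toRingHom = c.map t.toRingHom := by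
      rw [← h0]
      rfl
    rw [h1, ht1]
  · intro x k
    induction x using TensorProduct.induction_on with
    | zero =>
      simp only [map_zero, Str.coe_zero, Pi.zero_apply]
    | add x y hx hy =>
      have h1 : (cbc (A := A) c A').coe (phibc c φ A' (x + y)) k = (cbc (A := A) c A').coe (phibc c φ A' x) k +
          (cbc (A := A) c A').coe (phibc c φ A' y) k := by
        rw [map_add]
        rfl
      have h2 : cE.coe (φE (x + y)) k = cE.coe (φE x) k + cE.coe (φE y) k := by
        rw [map_add]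
        rfl
      rw [h1, h2, map_add, hx, hy]
    | tmul a x =>
      have h1 : a ⊗ₜ[A] x = a • ((1 : A') ⊗ₜ[A] x) := by
        rw [smul_tmul', smul_eq_mul, mul_one]
      have h2 : φE (a ⊗ₜ x) = a • ψE x := by
        rw [h1, map_smul]
        rfl
      rw [coe_phibc_tmul, hT, ht2, h2, Str.coe_smul, Pi.smul_apply, Algebra.smul_def]
  · rintro T' ⟨hT1, hT2⟩
    let t' : D →ₐ[A] E :=
      { T'.toRingHom.comp (Algebra.TensorProduct.includeRight : D →ₐ[A] A' ⊗[A] D).toRingHom with
        commutes' := fun r => by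
          change T' (1 ⊗ₜ algebraMap A D r) = _
          have h1 : (1 : A') ⊗ₜ[A] algebraMap A D r = algebraMap A' (A' ⊗[A] D) (algebraMap A A' r) := by
            rw [Algebra.algebraMap_eq_smul_one, ← smul_tmul, Algebra.smul_def, mul_one]
            rfl
          rw [h1, T'.commutes]
          rfl }
    have h1 : t' = t := by
      apply ht3
      refine ⟨hT1, fun x k => ?_⟩
      have h2 := hT2 (1 ⊗ₜ x) k
      rw [coe_phibc_tmul] at h2
      exact h2
    apply AlgHom.ext
    intro z
    induction z using TensorProduct.induction_on with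
    | zero => rw [map_zero, map_zero]
    | add x y hx hy => rw [map_add, map_add, hx, hy]
    | tmul a y =>
      have h3 : a ⊗ₜ[A] y = a • ((1 : A') ⊗ₜ[A] y) := by
        rw [smul_tmul', smul_eq_mul, mul_one]
      have h4 : T' (1 ⊗ₜ y) = t y := AlgHom.congr_fun h1 y
      rw [h3, map_smul, map_smul, h4, hTi]

end baseChange

section base

open Polynomial

variable {A : Type u} [CommRing A] (p : Ideal A) [p.IsPrime]

theorem infinite_residueField : Infinite (p.map (C : A →+* A[X])).ResidueField := by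
  refine Infinite.of_injective (fun n : ℕ => algebraMap A[X] (p.map (C : A →+* A[X])).ResidueField (X ^ n)) ?_
  intro i j hij
  by_contra hne
  have h1 : algebraMap A[X] (p.map (C : A →+* A[X])).ResidueField (X ^ i - X ^ j) = 0 := by
    rw [map_sub]
    exact sub_eq_zero.2 hij
  rw [Ideal.algebraMap_residueField_eq_zero, Ideal.mem_map_C_iff] at h1
  have h2 := h1 i
  rw [coeff_sub, coeff_X_pow, coeff_X_pow, if_pos rfl, if_neg hne, sub_zero] at h2
  exact Ideal.IsPrime.ne_top ‹_› ((Ideal.eq_top_iff_one _).2 h2)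

theorem nontrivial_fibre {C₀ : Type u} [CommRing C₀] [Algebra A C₀] (P : Ideal C₀) [P.IsPrime]
    (hP : P.comap (algebraMap A C₀) = p) :
    Nontrivial ((p.map (C : A →+* A[X])).ResidueField ⊗[Localization.AtPrime (p.map (C : A →+* A[X]))]
      (Localization.AtPrime (p.map (C : A →+* A[X])) ⊗[A] C₀)) := by
  let 𝔭 : Ideal A[X] := p.map (C : A →+* A[X])
  let 𝔓 : Ideal C₀[X] := P.map (C : C₀ →+* C₀[X])
  let h : A[X] →+* C₀[X] := Polynomial.mapRingHom (algebraMap A C₀)
  have hcomap : 𝔭 = 𝔓.comap h := by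
    ext f
    rw [Ideal.mem_comap, Ideal.mem_map_C_iff, Ideal.mem_map_C_iff]
    refine forall_congr' fun n => ?_
    rw [coe_mapRingHom, coeff_map, ← Ideal.mem_comap, hP]
  let Ω := 𝔓.ResidueField
  let j : 𝔭.ResidueField →+* Ω := Ideal.ResidueField.map 𝔭 𝔓 h hcomap
  have hj : ∀ x, j (algebraMap A[X] 𝔭.ResidueField x) = algebraMap C₀[X] Ω (h x) :=
    fun x => Ideal.ResidueField.map_algebraMap _ _ _ hcomap x
  obtain ⟨l, hl1, -⟩ := exists_tensor_hom (A := A) (B := Localization.AtPrime 𝔭) (C := C₀)
    (j.comp (algebraMap (Localization.AtPrime 𝔭) 𝔭.ResidueField)) ((algebraMap C₀[X] Ω).comp (C : C₀ →+* C₀[X])) (by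
      intro x
      change j (algebraMap (Localization.AtPrime 𝔭) 𝔭.ResidueField (algebraMap A (Localization.AtPrime 𝔭) x)) =
        algebraMap C₀[X] Ω (C (algebraMap A C₀ x))
      have h1 : algebraMap A (Localization.AtPrime 𝔭) x = algebraMap A[X] (Localization.AtPrime 𝔭) (C x) := by
        rw [IsScalarTower.algebraMap_apply A A[X] (Localization.AtPrime 𝔭)]
        rfl
      rw [h1, ← IsScalarTower.algebraMap_apply A[X] (Localization.AtPrime 𝔭) 𝔭.ResidueField, hj]
      congr 1
      exact Polynomial.map_C _)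
  obtain ⟨F, -, -⟩ := exists_tensor_hom (A := Localization.AtPrime 𝔭) (B := 𝔭.ResidueField)
    (C := Localization.AtPrime 𝔭 ⊗[A] C₀) j l (fun x => (hl1 x).symm)
  exact F.domain_nontrivial

end base

open CategoryTheory AlgebraicGeometry in
/-- A smooth point of an algebra gives a point of the smooth locus. -/
theorem mem_smoothLocus {A D : Type u} [CommRing A] [CommRing D] [Algebra A D] [Algebra.FinitePresentation A D]
    (q : Ideal D) [q.IsPrime] (hq : Algebra.IsSmoothAt A q)
    [LocallyOfFinitePresentation (Spec.map (CommRingCat.ofHom (algebraMap A D)))] :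
    (⟨q, inferInstance⟩ : PrimeSpectrum D) ∈ (Spec.map (CommRingCat.ofHom (algebraMap A D))).smoothLocus := by
  obtain ⟨f, hf, hs⟩ := Algebra.IsSmoothAt.exists_notMem_smooth (R := A) q
  let j : Spec (.of (Localization.Away f)) ⟶ Spec (.of D) :=
    Spec.map (CommRingCat.ofHom (algebraMap D (Localization.Away f)))
  have hj : IsOpenImmersion j := inferInstance
  have hsm : Smooth (j ≫ Spec.map (CommRingCat.ofHom (algebraMap A D))) := by
    rw [← Spec.map_comp, ← CommRingCat.ofHom_comp, ← IsScalarTower.algebraMap_eq]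
    rw [HasRingHomProperty.Spec_iff (P := @Smooth)]
    change (algebraMap A (Localization.Away f)).Smooth
    rw [RingHom.smooth_algebraMap]
    exact hs
  have hr : (⟨q, inferInstance⟩ : PrimeSpectrum D) ∈ Set.range j := by
    have h1 : Set.range j = (PrimeSpectrum.basicOpen f : Set (PrimeSpectrum D)) :=
      PrimeSpectrum.localization_away_comap_range (Localization.Away f) f
    rw [h1]
    exact hf
  obtain ⟨z, hz⟩ := hr
  have h2 := Scheme.Hom.preimage_smoothLocus_eq j (Spec.map (CommRingCat.ofHom (algebraMap A D)))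
  rw [Scheme.Hom.smoothLocus_eq_top (j ≫ Spec.map (CommRingCat.ofHom (algebraMap A D)))] at h2
  have h3 : z ∈ j ⁻¹ᵁ (Spec.map (CommRingCat.ofHom (algebraMap A D))).smoothLocus := by
    rw [h2]
    trivial
  rw [← hz]
  exact h3

open CategoryTheory AlgebraicGeometry Polynomial in
/-- **The ring theorem.** `C` flat and of finite presentation over `A`, `P` a prime of `C`. For some `d > 0` the
algebra `D` representing the pairs (algebra structure on `E^d`, `A`-algebra map from `C` to it) is smooth over `A` at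
some point lying over `P ∩ A`. -/
theorem exists_smooth_point {A C₀ : Type u} [CommRing A] [CommRing C₀] [Algebra A C₀] [Module.Flat A C₀]
    [Algebra.FinitePresentation A C₀] (P : Ideal C₀) [P.IsPrime] :
    ∃ d : ℕ, 0 < d ∧ ∀ (D : Type u) [CommRing D] [Algebra A D] [Algebra.FinitePresentation A D] (c : Str d D)
      (φ : C₀ →ₐ[A] c.Alg), IsUniv c φ →
      ∃ q : PrimeSpectrum D, q.comap (algebraMap A D) = (⟨P, inferInstance⟩ : PrimeSpectrum C₀).comap (algebraMap A C₀) ∧
        ∀ [LocallyOfFinitePresentation (Spec.map (CommRingCat.ofHom (algebraMap A D)))],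
          (q : Spec (.of D)) ∈ (Spec.map (CommRingCat.ofHom (algebraMap A D))).smoothLocus := by
  let p : Ideal A := P.comap (algebraMap A C₀)
  let 𝔭 : Ideal A[X] := p.map (Polynomial.C : A →+* A[X])
  let A' := Localization.AtPrime 𝔭
  let K := 𝔭.ResidueField
  have hK : Infinite K := infinite_residueField p
  have hnt : Nontrivial (K ⊗[A'] (A' ⊗[A] C₀)) := nontrivial_fibre p P rfl
  have hAK : Function.Surjective (algebraMap A' K) := IsLocalRing.residue_surjective
  have hflat : Module.Flat A A' := by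
    have h1 : Module.Flat A[X] A' := IsLocalization.flat A' 𝔭.primeCompl
    exact Module.Flat.trans A A[X] A'
  obtain ⟨d, hd, H⟩ := exists_formallySmooth_point (C := A' ⊗[A] C₀) hAK
  refine ⟨d, hd, ?_⟩
  intro D _ _ _ c φ hu
  obtain ⟨t, q', hq', hqt, hsm⟩ := H (A' ⊗[A] D) (cbc (A := A) c A') (phibc c φ A') (hu.baseChange c φ)
  let z' : PrimeSpectrum (A' ⊗[A] D) := ⟨q', hq'⟩
  let q : PrimeSpectrum D := z'.comap (Algebra.TensorProduct.includeRight : D →ₐ[A] A' ⊗[A] D).toRingHom
  refine ⟨q, ?_, ?_⟩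
  · apply PrimeSpectrum.ext
    change Ideal.comap (algebraMap A D) (Ideal.comap (Algebra.TensorProduct.includeRight : D →ₐ[A] A' ⊗[A] D).toRingHom q') = p
    ext x
    rw [Ideal.mem_comap, Ideal.mem_comap, hqt, RingHom.mem_ker]
    change t (1 ⊗ₜ algebraMap A D x) = 0 ↔ _
    have h1 : (1 : A') ⊗ₜ[A] algebraMap A D x = algebraMap A' (A' ⊗[A] D) (algebraMap A A' x) := by
      rw [Algebra.algebraMap_eq_smul_one, ← smul_tmul, Algebra.smul_def, mul_one]
      rfl
    rw [h1, t.commutes, IsScalarTower.algebraMap_apply A A[X] A', ← IsScalarTower.algebraMap_apply A[X] A' K,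
      Ideal.algebraMap_residueField_eq_zero]
    change Polynomial.C x ∈ 𝔭 ↔ _
    rw [Ideal.mem_map_C_iff]
    constructor
    · intro h
      have := h 0
      rwa [coeff_C_zero] at this
    · intro h n
      rw [coeff_C]
      split_ifs
      · exact h
      · exact p.zero_mem
  · intro _
    let f : Spec (.of D) ⟶ Spec (.of A) := Spec.map (CommRingCat.ofHom (algebraMap A D))
    let g : Spec (.of A') ⟶ Spec (.of A) := Spec.map (CommRingCat.ofHom (algebraMap A A'))
    let f' : Spec (.of (A' ⊗[A] D)) ⟶ Spec (.of A') :=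
      Spec.map (CommRingCat.ofHom (algebraMap A' (A' ⊗[A] D)))
    let g' : Spec (.of (A' ⊗[A] D)) ⟶ Spec (.of D) :=
      Spec.map (CommRingCat.ofHom (Algebra.TensorProduct.includeRight : D →ₐ[A] A' ⊗[A] D).toRingHom)
    have hpb : IsPullback g' f' f g :=
      isPullback_SpecMap_of_isPushout _ _ _ _ (CommRingCat.isPushout_tensorProduct A A' D).flip
    have hf' : LocallyOfFinitePresentation f' := MorphismProperty.of_isPullback hpb ‹_›
    have hg : Flat g := by
      rw [HasRingHomProperty.Spec_iff (P := @Flat)]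
      exact (RingHom.flat_algebraMap_iff (R := A) (S := A')).2 hflat
    have h1 := Groth.Agent.S2155.result f g f' g' hpb (Or.inr hg)
    have h2 : (z' : Spec (.of (A' ⊗[A] D))) ∈ f'.smoothLocus := mem_smoothLocus q' hsm
    rw [h1] at h2
    exact h2

end K628.Artin
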