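import Groth.Agent.S0387
import Groth.Agent.Flat2E.FibreCrit2
import Mathlib.RingTheory.RingHom.Flat
import Mathlib.RingTheory.Localization.AtPrime.Basic
import Mathlib.LinearAlgebra.TensorProduct.RightExactness

/-!
# Flatness of `C[a] ⊇ (F)` over `A[a][x]`, `x_i ↦ F_i = f_i - ∑ a_ij g_j`, near the special point (helper628)
-/

set_option autoImplicit false

universe u

open TensorProduct MvPolynomial

namespace K628.Artin

/-- The localization of a surjection is surjective, with kernel generated by the kernel. -/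
theorem localRingHom_surjective_and_ker {R R₁ : Type u} [CommRing R] [CommRing R₁] (f : R →+* R₁)
    (hf : Function.Surjective f) (p : Ideal R) [p.IsPrime] (p₁ : Ideal R₁) [p₁.IsPrime]
    (hp : p = p₁.comap f) :
    Function.Surjective (Localization.localRingHom p p₁ f hp) ∧
      RingHom.ker (Localization.localRingHom p p₁ f hp) =
        (RingHom.ker f).map (algebraMap R (Localization.AtPrime p)) := by
  have hT : Submonoid.map f p.primeCompl = p₁.primeCompl := by
    ext x
    constructor
    · rintro ⟨y, hy, rfl⟩ h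
      apply hy
      rw [hp]
      exact h
    · intro hx
      obtain ⟨y, rfl⟩ := hf x
      refine ⟨y, fun h => hx ?_, rfl⟩
      rw [hp] at h
      exact h
  constructor
  · intro x
    obtain ⟨a, s, rfl⟩ := IsLocalization.exists_mk'_eq p₁.primeCompl x
    obtain ⟨a, rfl⟩ := hf a
    obtain ⟨t, ht, hts⟩ := hT.ge s.2
    refine ⟨IsLocalization.mk' _ a ⟨t, ht⟩, ?_⟩
    rw [Localization.localRingHom_mk']
    congr 1
    exact Subtype.ext hts
  · exact IsLocalization.ker_map (Localization.AtPrime p₁) f hT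

/-- Abstract form: `Λ → K` surjective onto a field, `𝒞` flat of finite presentation over `Λ`, `ρ : 𝒞 → CK` surjective
with kernel generated by the kernel of `Λ → K`, `F_i ∈ 𝒞`.  If `K[x] → CK_P` is flat then `Λ[x] → 𝒞` is flat at
the preimage of `P`. -/
theorem flat_at (Λ K 𝒞 CK : Type u) [CommRing Λ] [CommRing K] [CommRing 𝒞] [CommRing CK] [Algebra Λ 𝒞]
    [Algebra K CK] [Algebra.FinitePresentation Λ 𝒞] [Module.Flat Λ 𝒞] (e0 : Λ →+* K) (he0 : Function.Surjective e0)
    (ρ : 𝒞 →+* CK) (hρ : Function.Surjective ρ) (hρc : ρ.comp (algebraMap Λ 𝒞) = (algebraMap K CK).comp e0)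
    (hker : RingHom.ker ρ = (RingHom.ker e0).map (algebraMap Λ 𝒞)) {n : ℕ} (F : Fin n → 𝒞)
    (P : Ideal CK) [P.IsPrime]
    (hP : ((algebraMap CK (Localization.AtPrime P)).comp
      (aeval (R := K) (fun i => ρ (F i)) : MvPolynomial (Fin n) K →ₐ[K] CK).toRingHom).Flat)
    [Algebra (MvPolynomial (Fin n) Λ) 𝒞] (halg : algebraMap (MvPolynomial (Fin n) Λ) 𝒞 = (aeval F : _ →ₐ[Λ] 𝒞).toRingHom) :
    Module.Flat (MvPolynomial (Fin n) Λ) (LocalizedModule (P.comap ρ).primeCompl 𝒞) := by
  let S₁ := MvPolynomial (Fin n) Λ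
  have hst : IsScalarTower Λ S₁ 𝒞 := IsScalarTower.of_algebraMap_eq fun x => by
    rw [halg]
    exact ((aeval F : MvPolynomial (Fin n) Λ →ₐ[Λ] 𝒞).commutes x).symm
  have hfp : Algebra.FinitePresentation S₁ 𝒞 :=
    Algebra.FinitePresentation.of_restrict_scalars_finitePresentation Λ S₁ 𝒞
  set q : Ideal 𝒞 := P.comap ρ with hq
  let p : Ideal Λ := RingHom.ker e0
  have hp : p.map (algebraMap Λ 𝒞) ≤ q := by
    rw [← hker]
    intro x hx
    rw [hq, Ideal.mem_comap, (RingHom.mem_ker).1 hx]
    exact P.zero_mem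
  let T := Localization.AtPrime q
  let g : 𝒞 →ₗ[𝒞] T := Algebra.linearMap 𝒞 T
  have hflT : Module.Flat S₁ T := by
    refine Groth.Agent.Flat2E.FibreCrit.flat_of_flat_of_fibre' (R := Λ) (S₁ := S₁) (S₂ := 𝒞) q p hp g ?_ ?_
    · have : Module.Flat 𝒞 T := IsLocalization.flat T q.primeCompl
      exact Module.Flat.trans Λ 𝒞 T
    · -- the fibre
      let I : Ideal S₁ := p.map (algebraMap Λ S₁)
      let N' := Localization.AtPrime P
      let φ₁ : S₁ →+* MvPolynomial (Fin n) K := MvPolynomial.map e0
      have hφ₁ : Function.Surjective φ₁ := MvPolynomial.map_surjective e0 he0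
      have hkφ : RingHom.ker φ₁ = I := by
        rw [show RingHom.ker φ₁ = Ideal.map C (RingHom.ker e0) from MvPolynomial.ker_map e0]
        rfl
      let ψ : MvPolynomial (Fin n) K →+* N' := (algebraMap CK N').comp
        (aeval (R := K) (fun i => ρ (F i)) : MvPolynomial (Fin n) K →ₐ[K] CK).toRingHom
      let e : (S₁ ⧸ I) ≃+* MvPolynomial (Fin n) K :=
        (Ideal.quotEquivOfEq hkφ.symm).trans (RingHom.quotientKerEquivOfSurjective hφ₁)
      let _ : Algebra (S₁ ⧸ I) N' := (ψ.comp e.toRingHom).toAlgebra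
      let _ : Algebra S₁ N' := ((ψ.comp e.toRingHom).comp (Ideal.Quotient.mk I)).toAlgebra
      have : IsScalarTower S₁ (S₁ ⧸ I) N' := ⟨fun a b c => by
        obtain ⟨b, rfl⟩ := Ideal.Quotient.mk_surjective b
        change (ψ (e (Ideal.Quotient.mk I (a * b)))) * c =
          (ψ (e (Ideal.Quotient.mk I a))) * (ψ (e (Ideal.Quotient.mk I b)) * c)
        rw [map_mul, map_mul, map_mul, mul_assoc]⟩
      have he : ∀ x, e (Ideal.Quotient.mk I x) = φ₁ x := fun x => rfl
      let π₀ : T →+* N' := Localization.localRingHom q P ρ hq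
      obtain ⟨hπs, hπk⟩ := localRingHom_surjective_and_ker ρ hρ q P hq
      have hcomp : ∀ x : S₁, π₀ (algebraMap S₁ T x) = algebraMap S₁ N' x := by
        intro x
        change π₀ (algebraMap S₁ T x) = ψ (φ₁ x)
        rw [IsScalarTower.algebraMap_apply S₁ 𝒞 T, Localization.localRingHom_to_map]
        change algebraMap CK N' (ρ (algebraMap S₁ 𝒞 x)) = algebraMap CK N' (aeval (R := K) (fun i => ρ (F i)) (φ₁ x))
        congr 1
        rw [halg]
        have : ρ.comp (aeval F : MvPolynomial (Fin n) Λ →ₐ[Λ] 𝒞).toRingHom =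
            (aeval (R := K) (fun i => ρ (F i)) : MvPolynomial (Fin n) K →ₐ[K] CK).toRingHom.comp φ₁ := by
          apply MvPolynomial.ringHom_ext
          · intro r
            have := RingHom.congr_fun hρc r
            simpa [φ₁] using this
          · intro i
            simp [φ₁]
        exact RingHom.congr_fun this x
      let π : T →ₗ[S₁] N' :=
        { toFun := π₀
          map_add' := map_add π₀
          map_smul' := fun s x => by
            rw [Algebra.smul_def, map_mul, hcomp, RingHom.id_apply, Algebra.smul_def] }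
      refine Groth.Agent.Flat2E.FibreCrit.flat_quotient_tensor I π hπs ?_ ?_
      · ext x
        have h1 : x ∈ LinearMap.ker π ↔ x ∈ RingHom.ker π₀ := Iff.rfl
        rw [h1, hπk, hker, Ideal.map_map]
        have h2 : (I • ⊤ : Submodule S₁ T) = (I.map (algebraMap S₁ T)).restrictScalars S₁ :=
          Ideal.smul_top_eq_map I
        rw [h2, Submodule.restrictScalars_mem]
        have h3 : I.map (algebraMap S₁ T) = (RingHom.ker e0).map ((algebraMap 𝒞 T).comp (algebraMap Λ 𝒞)) := by
          change (Ideal.map (algebraMap Λ S₁) p).map (algebraMap S₁ T) = _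
          rw [Ideal.map_map]
          congr 1
          ext x
          change algebraMap S₁ T (algebraMap Λ S₁ x) = algebraMap 𝒞 T (algebraMap Λ 𝒞 x)
          rw [IsScalarTower.algebraMap_apply S₁ 𝒞 T, ← IsScalarTower.algebraMap_apply Λ S₁ 𝒞]
        rw [h3]
      · have h5 : (ψ.comp e.toRingHom).Flat := (RingHom.Flat.of_bijective e.bijective).comp hP
        exact h5
  let eq : LocalizedModule q.primeCompl 𝒞 ≃ₗ[𝒞] T :=
    IsLocalizedModule.linearEquiv q.primeCompl (LocalizedModule.mkLinearMap q.primeCompl 𝒞) g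
  exact Module.Flat.of_linearEquiv (eq.restrictScalars S₁)

end K628.Artin
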