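import Groth.Agent.AlgSp.K628.Artin.FlatNear
import Mathlib.RingTheory.RingHom.FinitePresentation

/-!
# The family of slices `F_i = f_i - ∑ a_ij g_j` over the parameter ring (helper628)
-/

set_option autoImplicit false

universe u

open TensorProduct MvPolynomial

namespace K628.Artin

theorem flat_away {R S G : Type u} [CommRing R] [CommRing S] [CommRing G] [Algebra R S] [Algebra S G] [Algebra R G]
    [IsScalarTower R S G] (γ : S) [IsLocalization.Away γ G]
    (h : ∀ (q : Ideal S) [q.IsPrime], γ ∉ q → Module.Flat R (LocalizedModule q.primeCompl S)) : Module.Flat R G := by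
  refine Module.flat_of_isLocalized_maximal (S := G) (M := G)
    (fun 𝔔 _ ↦ Localization.AtPrime 𝔔) (fun 𝔔 _ ↦ Algebra.linearMap _ _) ?_
  intro 𝔔 _
  let q : Ideal S := 𝔔.comap (algebraMap S G)
  have hq : q.IsPrime := inferInstance
  have hγq : γ ∉ q := fun h => ‹𝔔.IsMaximal›.ne_top
    (Ideal.eq_top_of_isUnit_mem 𝔔 h (IsLocalization.Away.algebraMap_isUnit γ))
  have h1 := h q hγq
  let T := Localization.AtPrime 𝔔
  have : IsLocalization.AtPrime T q :=
    IsLocalization.isLocalization_isLocalization_atPrime_isLocalization (Submonoid.powers γ) T 𝔔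
  let e : LocalizedModule q.primeCompl S ≃ₗ[S] T :=
    IsLocalizedModule.linearEquiv q.primeCompl (LocalizedModule.mkLinearMap q.primeCompl S) (Algebra.linearMap S T)
  have hst2 : IsScalarTower R S T := IsScalarTower.of_algebraMap_eq fun x => by
    rw [IsScalarTower.algebraMap_apply R G T, IsScalarTower.algebraMap_apply R S G,
      ← IsScalarTower.algebraMap_apply S G T]
  exact Module.Flat.of_linearEquiv (e.symm.restrictScalars R)

section defs

variable (A K C : Type u) [CommRing A] [Field K] [CommRing C] [Algebra A K] [Algebra A C] {n d : ℕ}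
  (f : Fin n → C) (g : Fin d → C)

/-- parameter ring `A[a_ij]` -/
abbrev Lam (n d : ℕ) : Type u := MvPolynomial (Fin n × Fin d) A

/-- `C[a_ij]` -/
abbrev CC (n d : ℕ) : Type u := Lam A n d ⊗[A] C

/-- `F_i = f_i - ∑ a_ij g_j` -/
noncomputable def FF (i : Fin n) : CC A C n d := 1 ⊗ₜ f i - ∑ j, (X (i, j) : Lam A n d) ⊗ₜ[A] g j

/-- evaluation at `a = 0` -/
noncomputable def ev0 (n d : ℕ) : Lam A n d →ₐ[A] K := aeval 0

/-- specialisation at `a = 0` -/
noncomputable def rho (n d : ℕ) : CC A C n d →ₐ[A] K ⊗[A] C := Algebra.TensorProduct.map (ev0 A K n d) (AlgHom.id A C)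

/-- `A[a][x] → C[a]`, `x_i ↦ F_i` -/
noncomputable def evF : MvPolynomial (Fin n) (Lam A n d) →ₐ[Lam A n d] CC A C n d := aeval (FF A C f g)

/-- the ideal of the special slice -/
abbrev IK : Ideal (K ⊗[A] C) := Ideal.span (Set.range fun i => (1 : K) ⊗ₜ[A] f i)

end defs

variable {A K C : Type u} [CommRing A] [Field K] [CommRing C] [Algebra A K] [Algebra A C] {n d : ℕ}
  (f : Fin n → C) (g : Fin d → C)

theorem ev0_X (i : Fin n × Fin d) : ev0 A K n d (X i) = 0 := by
  rw [ev0, aeval_X]
  rfl

theorem ev0_surjective (hAK : Function.Surjective (algebraMap A K)) : Function.Surjective (ev0 A K n d) := by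
  intro k
  obtain ⟨a, rfl⟩ := hAK k
  exact ⟨C a, (ev0 A K n d).commutes a⟩

theorem rho_surjective (hAK : Function.Surjective (algebraMap A K)) : Function.Surjective (rho A K C n d) := by
  exact TensorProduct.map_surjective (g := (ev0 A K n d).toLinearMap) (g' := (LinearMap.id : C →ₗ[A] C))
    (ev0_surjective hAK) Function.surjective_id

theorem rho_tmul (l : Lam A n d) (c : C) : rho A K C n d (l ⊗ₜ c) = ev0 A K n d l ⊗ₜ c := rfl

theorem rho_FF (i : Fin n) : rho A K C n d (FF A C f g i) = 1 ⊗ₜ f i := by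
  rw [FF, map_sub, map_sum, rho_tmul, map_one]
  have : ∀ j, rho A K C n d ((X (i, j) : Lam A n d) ⊗ₜ[A] g j) = 0 := fun j => by
    rw [rho_tmul, ev0_X, zero_tmul]
  simp only [this, Finset.sum_const_zero, sub_zero]

/-- There is `γ ∈ C[a]`, congruent to `1` on the special slice, such that `C[a]_γ` is flat and of finite presentation
over `A[a][x]`. -/
theorem exists_gamma (hAK : Function.Surjective (algebraMap A K)) [Algebra.FinitePresentation A C] [Module.Flat A C]
    (hflat : ∀ (P : Ideal (K ⊗[A] C)) [P.IsPrime], (∀ i, (1 : K) ⊗ₜ[A] f i ∈ P) →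
      ((algebraMap _ (Localization.AtPrime P)).comp
        (aeval (R := K) (fun i => (1 : K) ⊗ₜ[A] f i) : MvPolynomial (Fin n) K →ₐ[K] K ⊗[A] C).toRingHom).Flat) :
    ∃ γ : CC A C n d, Ideal.Quotient.mk (IK A K C f) (rho A K C n d γ) = 1 ∧
      ((algebraMap (CC A C n d) (Localization.Away γ)).comp (evF A C f g).toRingHom).Flat ∧
      ((algebraMap (CC A C n d) (Localization.Away γ)).comp (evF A C f g).toRingHom).FinitePresentation := by
  let R1 := MvPolynomial (Fin n) (Lam A n d)
  let 𝒞 := CC A C n d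
  let _ : Algebra R1 𝒞 := (evF A C f g).toRingHom.toAlgebra
  have hst : IsScalarTower (Lam A n d) R1 𝒞 := IsScalarTower.of_algebraMap_eq fun x => ((evF A C f g).commutes x).symm
  have hfp : Algebra.FinitePresentation R1 𝒞 :=
    Algebra.FinitePresentation.of_restrict_scalars_finitePresentation (Lam A n d) R1 𝒞
  have hopen := Groth.Agent.S0387.result (R := R1) (S := 𝒞) (M := 𝒞)
  obtain ⟨J, hJ⟩ := (PrimeSpectrum.isClosed_iff_zeroLocus_ideal _).1 hopen.isClosed_compl
  have hmem : ∀ q : PrimeSpectrum 𝒞, ¬ J ≤ q.asIdeal → Module.Flat R1 (LocalizedModule q.asIdeal.primeCompl 𝒞) := by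
    intro q hq
    by_contra h
    have : q ∈ {q : PrimeSpectrum 𝒞 | Module.Flat R1 (LocalizedModule q.asIdeal.primeCompl 𝒞)}ᶜ := h
    rw [hJ] at this
    exact hq this
  let τ : 𝒞 →+* (K ⊗[A] C ⧸ IK A K C f) := (Ideal.Quotient.mk (IK A K C f)).comp (rho A K C n d).toRingHom
  have hτ : Function.Surjective τ := Ideal.Quotient.mk_surjective.comp (rho_surjective hAK)
  have htop : J.map τ = ⊤ := by
    by_contra h
    obtain ⟨m, hm, hJm⟩ := Ideal.exists_le_maximal _ h
    let P : Ideal (K ⊗[A] C) := m.comap (Ideal.Quotient.mk (IK A K C f))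
    have hP : P.IsPrime := Ideal.IsPrime.comap _
    have hfP : ∀ i, (1 : K) ⊗ₜ[A] f i ∈ P := by
      intro i
      change Ideal.Quotient.mk (IK A K C f) _ ∈ m
      rw [Ideal.Quotient.eq_zero_iff_mem.2 (Ideal.subset_span (Set.mem_range_self i))]
      exact m.zero_mem
    have h1 : Module.Flat R1 (LocalizedModule (P.comap (rho A K C n d).toRingHom).primeCompl 𝒞) := by
      refine flat_at (Lam A n d) K 𝒞 (K ⊗[A] C) (ev0 A K n d).toRingHom (ev0_surjective hAK)
        (rho A K C n d).toRingHom (rho_surjective hAK) ?_ ?_ (FF A C f g) P ?_ rfl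
      · exact RingHom.ext fun x => rfl
      · exact Algebra.TensorProduct.rTensor_ker (f := ev0 A K n d) (ev0_surjective hAK)
      · have h2 : (fun i => (rho A K C n d).toRingHom (FF A C f g i)) = fun i => (1 : K) ⊗ₜ[A] f i :=
          funext fun i => rho_FF f g i
        rw [h2]
        exact hflat P hfP
    have h3 : (⟨P.comap (rho A K C n d).toRingHom, inferInstance⟩ : PrimeSpectrum 𝒞) ∉ PrimeSpectrum.zeroLocus (J : Set 𝒞) := by
      rw [← hJ]
      exact fun h => h h1
    apply h3
    intro x hx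
    change τ x ∈ m
    exact hJm (Ideal.mem_map_of_mem τ hx)
  obtain ⟨γ, hγJ, hγ⟩ : ∃ γ ∈ J, τ γ = 1 := by
    have : (1 : K ⊗[A] C ⧸ IK A K C f) ∈ J.map τ := htop ▸ trivial
    exact (Ideal.mem_map_iff_of_surjective τ hτ).1 this
  refine ⟨γ, hγ, ?_, ?_⟩
  · have h5 : Module.Flat R1 (Localization.Away γ) :=
      flat_away (R := R1) (S := 𝒞) γ fun q hq hγq => hmem ⟨q, hq⟩ fun h => hγq (h hγJ)
    have h6 : (algebraMap 𝒞 (Localization.Away γ)).comp (evF A C f g).toRingHom =
        algebraMap R1 (Localization.Away γ) := (IsScalarTower.algebraMap_eq R1 𝒞 (Localization.Away γ)).symm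
    rw [h6, RingHom.flat_algebraMap_iff]
    exact h5
  · have h1 : (evF A C f g).toRingHom.FinitePresentation := hfp
    have h2 : (algebraMap 𝒞 (Localization.Away γ)).FinitePresentation := by
      rw [RingHom.finitePresentation_algebraMap]
      exact IsLocalization.Away.finitePresentation γ
    exact h2.comp h1

end K628.Artin
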