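import Mathlib.RingTheory.MvPolynomial.Basic
import Mathlib.RingTheory.Ideal.Quotient.Operations
import Mathlib.RingTheory.TensorProduct.IsBaseChangePi
import Mathlib.LinearAlgebra.StdBasis
import Mathlib.RingTheory.IsTensorProduct

/-!
# Commutative algebra structures on a finite free module (helper628)

`Str d E` : structure constants of a commutative `E`-algebra with basis indexed by `Fin d`; `c.Alg` the algebra,
`c.map f` base change, `ofBasis` the structure constants of a given algebra.
-/

set_option autoImplicit false

universe u v w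

namespace K628.Artin

open Finset

/-- structure constants of a commutative algebra with basis indexed by `Fin d` -/
@[ext]
structure Str (d : ℕ) (E : Type u) [CommRing E] where
  m : Fin d → Fin d → Fin d → E
  o : Fin d → E
  comm : ∀ i j k, m i j k = m j i k
  assoc : ∀ i j k l, ∑ t, m i j t * m t k l = ∑ t, m j k t * m i t l
  one_mul : ∀ i l, ∑ t, o t * m t i l = if i = l then 1 else 0

namespace Str

variable {d : ℕ} {E : Type u} [CommRing E] (c : Str d E)

/-- the algebra -/
def Alg (_ : Str d E) : Type u := Fin d → E

instance : AddCommGroup c.Alg := inferInstanceAs (AddCommGroup (Fin d → E))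

instance {R : Type v} [Semiring R] [Module R E] : Module R c.Alg := inferInstanceAs (Module R (Fin d → E))

instance {R : Type v} {R' : Type w} [CommSemiring R] [CommSemiring R'] [Module R E] [Module R' E] [SMul R R']
    [IsScalarTower R R' E] : IsScalarTower R R' c.Alg := inferInstanceAs (IsScalarTower R R' (Fin d → E))

/-- the standard basis -/
noncomputable def bas : Module.Basis (Fin d) E c.Alg := Pi.basisFun E (Fin d)

instance : Module.Free E c.Alg := Module.Free.of_basis c.bas
instance : Module.Finite E c.Alg := Module.Finite.of_basis c.bas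

/-- multiplication as a bilinear map -/
noncomputable def mulL : c.Alg →ₗ[E] c.Alg →ₗ[E] c.Alg :=
  c.bas.constr E fun i => c.bas.constr E fun j => (fun k => c.m i j k : Fin d → E)

theorem mulL_bas (i j : Fin d) : c.mulL (c.bas i) (c.bas j) = (fun k => c.m i j k : Fin d → E) := by
  rw [mulL, Module.Basis.constr_basis, Module.Basis.constr_basis]

/-- coordinates -/
def coe (x : c.Alg) : Fin d → E := x

@[simp] theorem coe_add (x y : c.Alg) : c.coe (x + y) = c.coe x + c.coe y := rfl
@[simp] theorem coe_zero : c.coe 0 = 0 := rfl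
theorem coe_injective : Function.Injective c.coe := fun _ _ h => h

/-- element with given coordinates -/
def vec (x : Fin d → E) : c.Alg := x

@[simp] theorem coe_vec (x : Fin d → E) : c.coe (c.vec x) = x := rfl
@[simp] theorem vec_coe (x : c.Alg) : c.vec (c.coe x) = x := rfl

theorem eq_sum_bas (x : c.Alg) : x = ∑ i, c.coe x i • c.bas i := (c.bas.sum_repr x).symm

theorem mk_eq_sum (x : Fin d → E) : (show c.Alg from x) = ∑ i, x i • c.bas i := c.eq_sum_bas x

theorem mulL_comm (x y : c.Alg) : c.mulL x y = c.mulL y x := by
  have h : c.mulL = c.mulL.flip := by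
    refine c.bas.ext fun i => c.bas.ext fun j => ?_
    rw [LinearMap.flip_apply, mulL_bas, mulL_bas]
    funext k
    exact c.comm i j k
  conv_lhs => rw [h]
  rfl

theorem mulL_assoc (x y z : c.Alg) : c.mulL (c.mulL x y) z = c.mulL x (c.mulL y z) := by
  have key : ∀ i j k, c.mulL (c.mulL (c.bas i) (c.bas j)) (c.bas k) = c.mulL (c.bas i) (c.mulL (c.bas j) (c.bas k)) := by
    intro i j k
    rw [mulL_bas, mulL_bas]
    have h1 : c.mulL (fun t => c.m i j t : Fin d → E) (c.bas k) = ∑ t, c.m i j t • c.mulL (c.bas t) (c.bas k) := by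
      have := c.mk_eq_sum (fun t => c.m i j t)
      change c.mulL (show c.Alg from fun t => c.m i j t) (c.bas k) = _
      rw [this, map_sum, LinearMap.sum_apply]
      simp only [map_smul, LinearMap.smul_apply]
    have h2 : c.mulL (c.bas i) (fun t => c.m j k t : Fin d → E) = ∑ t, c.m j k t • c.mulL (c.bas i) (c.bas t) := by
      have := c.mk_eq_sum (fun t => c.m j k t)
      change c.mulL (c.bas i) (show c.Alg from fun t => c.m j k t) = _
      rw [this, map_sum]
      simp only [map_smul]
    rw [h1, h2]
    funext l
    have e1 : (show Fin d → E from ∑ t, c.m i j t • c.mulL (c.bas t) (c.bas k)) l =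
        ∑ t, c.m i j t * c.m t k l := by
      simp only [mulL_bas]
      exact Finset.sum_apply l Finset.univ (fun t => (c.m i j t • (fun l => c.m t k l) : Fin d → E))
    have e2 : (show Fin d → E from ∑ t, c.m j k t • c.mulL (c.bas i) (c.bas t)) l =
        ∑ t, c.m j k t * c.m i t l := by
      simp only [mulL_bas]
      exact Finset.sum_apply l Finset.univ (fun t => (c.m j k t • (fun l => c.m i t l) : Fin d → E))
    exact e1.trans ((c.assoc i j k l).trans e2.symm)
  have k1 : ∀ i j (z : c.Alg), c.mulL (c.mulL (c.bas i) (c.bas j)) z = c.mulL (c.bas i) (c.mulL (c.bas j) z) := by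
    intro i j z
    exact congrArg (fun L : c.Alg →ₗ[E] c.Alg => L z)
      (c.bas.ext (f₁ := c.mulL (c.mulL (c.bas i) (c.bas j))) (f₂ := (c.mulL (c.bas i)).comp (c.mulL (c.bas j)))
        fun k => key i j k)
  have k2 : ∀ i (y z : c.Alg), c.mulL (c.mulL (c.bas i) y) z = c.mulL (c.bas i) (c.mulL y z) := by
    intro i y z
    exact congrArg (fun L : c.Alg →ₗ[E] c.Alg => L y)
      (c.bas.ext (f₁ := (c.mulL.flip z).comp (c.mulL (c.bas i))) (f₂ := (c.mulL (c.bas i)).comp (c.mulL.flip z))
        fun j => k1 i j z)
  exact congrArg (fun L : c.Alg →ₗ[E] c.Alg => L x)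
      (c.bas.ext (f₁ := (c.mulL.flip z).comp (c.mulL.flip y)) (f₂ := c.mulL.flip (c.mulL y z)) fun i => k2 i y z)

theorem mulL_one (x : c.Alg) : c.mulL (show c.Alg from (c.o : Fin d → E)) x = x := by
  have h : ∀ i, c.mulL (show c.Alg from (c.o : Fin d → E)) (c.bas i) = c.bas i := by
    intro i
    have h1 := c.mk_eq_sum c.o
    change c.mulL (show c.Alg from c.o) (c.bas i) = _
    rw [h1, map_sum, LinearMap.sum_apply]
    simp only [map_smul, LinearMap.smul_apply, mulL_bas]
    funext l
    refine (Finset.sum_apply l Finset.univ (fun t => (c.o t • (fun l => c.m t i l) : Fin d → E))).trans ?_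
    refine (c.one_mul i l).trans ?_
    change _ = (Pi.basisFun E (Fin d) i) l
    rw [Pi.basisFun_apply, Pi.single_apply]
    simp only [eq_comm]
  exact congrArg (fun L : c.Alg →ₗ[E] c.Alg => L x)
    (c.bas.ext (f₁ := c.mulL (show c.Alg from (c.o : Fin d → E))) (f₂ := LinearMap.id) fun i => h i)

noncomputable instance : CommRing c.Alg :=
  { (inferInstance : AddCommGroup c.Alg) with
    mul := fun x y => c.mulL x y
    one := (show c.Alg from (c.o : Fin d → E))
    left_distrib := fun x y z => map_add _ _ _
    right_distrib := fun x y z => by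
      change c.mulL (x + y) z = c.mulL x z + c.mulL y z
      rw [map_add, LinearMap.add_apply]
    zero_mul := fun x => by
      change c.mulL 0 x = 0
      rw [map_zero, LinearMap.zero_apply]
    mul_zero := fun x => map_zero _
    mul_assoc := c.mulL_assoc
    mul_comm := c.mulL_comm
    one_mul := c.mulL_one
    mul_one := fun x => (c.mulL_comm _ _).trans (c.mulL_one x) }

theorem mul_def (x y : c.Alg) : x * y = c.mulL x y := rfl

instance {R : Type v} [CommSemiring R] [Algebra R E] : IsScalarTower R E c.Alg :=
  inferInstanceAs (IsScalarTower R E (Fin d → E))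

noncomputable instance {R : Type v} [CommSemiring R] [Algebra R E] : Algebra R c.Alg := Algebra.ofModule
  (fun r x y => by
    rw [mul_def, mul_def, ← algebraMap_smul E r x, ← algebraMap_smul E r (c.mulL x y), map_smul,
      LinearMap.smul_apply])
  (fun r x y => by
    rw [mul_def, mul_def, ← algebraMap_smul E r y, ← algebraMap_smul E r (c.mulL x y), map_smul])

theorem coe_one : c.coe 1 = c.o := rfl
@[simp] theorem coe_smul {R : Type v} [CommSemiring R] [Algebra R E] (r : R) (x : c.Alg) :
    c.coe (r • x) = r • c.coe x := rfl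

theorem coe_bas (i k : Fin d) : c.coe (c.bas i) k = if k = i then 1 else 0 := by
  change (Pi.basisFun E (Fin d) i) k = _
  rw [Pi.basisFun_apply, Pi.single_apply]

theorem repr_bas (x : c.Alg) (i : Fin d) : c.bas.repr x i = c.coe x i := by
  change (Pi.basisFun E (Fin d)).repr x i = _
  rw [Pi.basisFun_repr]
  rfl

theorem coe_sum {ι : Type*} (s : Finset ι) (f : ι → c.Alg) (k : Fin d) :
    c.coe (∑ i ∈ s, f i) k = ∑ i ∈ s, c.coe (f i) k :=
  Finset.sum_apply k s (fun i => (f i : Fin d → E))

theorem coe_mul (x y : c.Alg) (k : Fin d) :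
    c.coe (x * y) k = ∑ i, ∑ j, c.coe x i * c.coe y j * c.m i j k := by
  rw [mul_def]
  conv_lhs => rw [c.eq_sum_bas x]
  rw [map_sum, LinearMap.sum_apply, coe_sum]
  refine Finset.sum_congr rfl fun i _ => ?_
  conv_lhs => rw [c.eq_sum_bas y]
  rw [map_sum, coe_sum]
  refine Finset.sum_congr rfl fun j _ => ?_
  rw [map_smul, map_smul, LinearMap.smul_apply, mulL_bas]
  change c.coe y j * (c.coe x i * c.m i j k) = _
  ring

theorem algebraMap_coe {R : Type v} [CommSemiring R] [Algebra R E] (r : R) (k : Fin d) :
    c.coe (algebraMap R c.Alg r) k = algebraMap R E r * c.o k := by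
  rw [Algebra.algebraMap_eq_smul_one, coe_smul, coe_one, Pi.smul_apply, Algebra.smul_def]

section map

variable {E' : Type v} [CommRing E'] (f : E →+* E')

/-- base change of structure constants -/
@[simps]
def map : Str d E' where
  m i j k := f (c.m i j k)
  o k := f (c.o k)
  comm i j k := by rw [c.comm]
  assoc i j k l := by
    have := congrArg f (c.assoc i j k l)
    simpa only [map_sum, map_mul] using this
  one_mul i l := by
    have := congrArg f (c.one_mul i l)
    rw [map_sum] at this
    simp only [map_mul] at this
    rw [this]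
    split_ifs
    · exact map_one f
    · exact map_zero f

/-- base change map -/
def mapHom : c.Alg →+* (c.map f).Alg where
  toFun x := (c.map f).vec fun k => f (c.coe x k)
  map_zero' := by
    funext k
    exact map_zero f
  map_one' := rfl
  map_add' x y := by
    funext k
    exact map_add f _ _
  map_mul' x y := by
    apply (c.map f).coe_injective
    funext k
    rw [coe_vec, coe_mul, coe_mul, map_sum]
    refine Finset.sum_congr rfl fun i _ => ?_
    rw [map_sum]
    refine Finset.sum_congr rfl fun j _ => ?_
    rw [map_mul, map_mul]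
    rfl

@[simp] theorem coe_mapHom (x : c.Alg) (k : Fin d) : (c.map f).coe (c.mapHom f x) k = f (c.coe x k) := rfl

theorem mapHom_smul (r : E) (x : c.Alg) : c.mapHom f (r • x) = f r • c.mapHom f x := by
  apply (c.map f).coe_injective
  funext k
  rw [coe_mapHom, coe_smul, coe_smul, Pi.smul_apply, Pi.smul_apply, coe_mapHom, smul_eq_mul, smul_eq_mul, map_mul]

theorem mapHom_algebraMap (r : E) : c.mapHom f (algebraMap E c.Alg r) = algebraMap E' (c.map f).Alg (f r) := by
  apply (c.map f).coe_injective
  funext k
  rw [coe_mapHom, algebraMap_coe, algebraMap_coe, map_mul]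
  rfl

theorem mapHom_bas (i : Fin d) : c.mapHom f (c.bas i) = (c.map f).bas i := by
  apply (c.map f).coe_injective
  funext k
  rw [coe_mapHom, coe_bas, coe_bas]
  split_ifs
  · exact map_one f
  · exact map_zero f

theorem mapHom_surjective (hf : Function.Surjective f) : Function.Surjective (c.mapHom f) := by
  intro y
  choose g hg using fun k => hf ((c.map f).coe y k)
  exact ⟨c.vec g, (c.map f).coe_injective (funext hg)⟩

end map

section ofBasis

variable {O : Type v} [CommRing O] [Algebra E O] (b : Module.Basis (Fin d) E O)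

/-- structure constants of an algebra with a basis -/
@[simps]
noncomputable def ofBasis : Str d E where
  m i j k := b.repr (b i * b j) k
  o k := b.repr 1 k
  comm i j k := by rw [mul_comm]
  assoc i j k l := by
    have h1 : b.repr ((b i * b j) * b k) l = ∑ t, b.repr (b i * b j) t * b.repr (b t * b k) l := by
      conv_lhs => rw [← b.sum_repr (b i * b j)]
      rw [Finset.sum_mul, map_sum, Finsupp.finsetSum_apply]
      refine Finset.sum_congr rfl fun t _ => ?_
      rw [smul_mul_assoc, map_smul, Finsupp.smul_apply, smul_eq_mul]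
    have h2 : b.repr (b i * (b j * b k)) l = ∑ t, b.repr (b j * b k) t * b.repr (b i * b t) l := by
      conv_lhs => rw [← b.sum_repr (b j * b k)]
      rw [Finset.mul_sum, map_sum, Finsupp.finsetSum_apply]
      refine Finset.sum_congr rfl fun t _ => ?_
      rw [mul_smul_comm, map_smul, Finsupp.smul_apply, smul_eq_mul]
    rw [← h1, ← h2, mul_assoc]
  one_mul i l := by
    have h1 : b.repr (1 * b i) l = ∑ t, b.repr 1 t * b.repr (b t * b i) l := by
      conv_lhs => rw [← b.sum_repr (1 : O)]
      rw [Finset.sum_mul, map_sum, Finsupp.finsetSum_apply]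
      refine Finset.sum_congr rfl fun t _ => ?_
      rw [smul_mul_assoc, map_smul, Finsupp.smul_apply, smul_eq_mul]
    rw [← h1, _root_.one_mul, b.repr_self, Finsupp.single_apply]

theorem repr_mul (x y : O) (k : Fin d) :
    b.repr (x * y) k = ∑ i, ∑ j, b.repr x i * b.repr y j * b.repr (b i * b j) k := by
  conv_lhs => rw [← b.sum_repr x, ← b.sum_repr y]
  rw [Finset.sum_mul, map_sum, Finsupp.finsetSum_apply]
  refine Finset.sum_congr rfl fun i _ => ?_
  rw [Finset.mul_sum, map_sum, Finsupp.finsetSum_apply]
  refine Finset.sum_congr rfl fun j _ => ?_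
  rw [smul_mul_smul_comm, map_smul, Finsupp.smul_apply, smul_eq_mul]

theorem coe_ofBasisAux (z : O) (k : Fin d) :
    (ofBasis b).coe ((b.repr.trans (ofBasis b).bas.repr.symm) z) k = b.repr z k := by
  rw [← repr_bas, LinearEquiv.trans_apply, LinearEquiv.apply_symm_apply]

/-- the algebra of the structure constants of `O` is `O` -/
noncomputable def ofBasisEquiv : O ≃ₐ[E] (ofBasis b).Alg :=
  AlgEquiv.ofLinearEquiv (b.repr.trans (ofBasis b).bas.repr.symm)
    (by
      apply (ofBasis b).coe_injective
      funext k
      rw [coe_ofBasisAux, coe_one]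
      rfl)
    (by
      intro x y
      apply (ofBasis b).coe_injective
      funext k
      rw [coe_ofBasisAux, coe_mul, repr_mul]
      simp only [coe_ofBasisAux]
      rfl)

theorem coe_ofBasisEquiv (z : O) (k : Fin d) : (ofBasis b).coe (ofBasisEquiv b z) k = b.repr z k :=
  coe_ofBasisAux b z k

end ofBasis

end Str

end K628.Artin
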