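import Mathlib.RingTheory.Flat.EquationalCriterion
import Mathlib.RingTheory.Nakayama
import Mathlib.RingTheory.Idempotents
import Mathlib.RingTheory.LocalRing.Module
import Mathlib.RingTheory.Ideal.Quotient.Nilpotent
import Groth.Agent.AlgSp.K628.Artin.Str

/-!
# Lifting of bases and of direct factors along square zero thickenings (helper628)
-/

set_option autoImplicit false

universe u

open TensorProduct

namespace K628.Artin

/-- A lift of a basis of `M/JM` is a basis of the flat module `M` if `J² = 0`. -/
theorem exists_basis_of_flat {E M N : Type*} [CommRing E] [AddCommGroup M] [Module E M] [Module.Flat E M]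
    (J : Ideal E) (hJ : J ^ 2 = ⊥) [AddCommGroup N] [Module E N] [Module (E ⧸ J) N] [IsScalarTower E (E ⧸ J) N]
    (τ : M →ₗ[E] N) (hτ : LinearMap.ker τ = J • ⊤) {d : ℕ} (b : Module.Basis (Fin d) (E ⧸ J) N) (y : Fin d → M)
    (hy : ∀ k, τ (y k) = b k) : ∃ b' : Module.Basis (Fin d) E M, ∀ k, b' k = y k := by
  classical
  have hJJ : ∀ a ∈ J, ∀ c ∈ J, a * c = 0 := by
    intro a ha c hc
    have : a * c ∈ J ^ 2 := by
      rw [pow_two]
      exact Ideal.mul_mem_mul ha hc
    rw [hJ] at this
    exact this
  have hmk : ∀ (r : E) (z : N), r • z = (Ideal.Quotient.mk J r) • z := fun r z =>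
    (algebraMap_smul (E ⧸ J) r z).symm
  have hrep : ∀ m : M, ∃ r : Fin d → E, m - ∑ k, r k • y k ∈ (J • ⊤ : Submodule E M) := by
    intro m
    choose r hr using fun k => Ideal.Quotient.mk_surjective (b.repr (τ m) k)
    refine ⟨r, ?_⟩
    rw [← hτ, LinearMap.mem_ker, map_sub, map_sum, sub_eq_zero]
    conv_lhs => rw [← b.sum_repr (τ m)]
    refine Finset.sum_congr rfl fun k _ => ?_
    rw [map_smul, hy, hmk, hr]
  have hspan : ⊤ ≤ Submodule.span E (Set.range y) := by
    have h1 : ⊤ ≤ Submodule.span E (Set.range y) ⊔ (J • ⊤ : Submodule E M) := by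
      intro m _
      obtain ⟨r, hr⟩ := hrep m
      rw [← sub_add_cancel m (∑ k, r k • y k), add_comm]
      exact Submodule.add_mem_sup (Submodule.sum_mem _ fun k _ => Submodule.smul_mem _ _ (Submodule.subset_span ⟨k, rfl⟩)) hr
    have h2 : (J • ⊤ : Submodule E M) ≤ Submodule.span E (Set.range y) := by
      calc (J • ⊤ : Submodule E M) ≤ J • (Submodule.span E (Set.range y) ⊔ (J • ⊤ : Submodule E M)) :=
            Submodule.smul_mono le_rfl h1
        _ = J • Submodule.span E (Set.range y) ⊔ (J • J • ⊤ : Submodule E M) := Submodule.smul_sup _ _ _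
        _ ≤ Submodule.span E (Set.range y) := by
            rw [← Submodule.mul_smul, ← pow_two, hJ, Submodule.bot_smul, sup_bot_eq]
            exact Submodule.smul_le_right
    exact h1.trans (sup_le le_rfl h2)
  have hli : LinearIndependent E y := by
    rw [Fintype.linearIndependent_iff]
    intro r hr
    obtain ⟨l, a, z, hz, ha⟩ := Module.Flat.isTrivialRelation_of_sum_smul_eq_zero hr
    choose t ht using fun j => hrep (z j)
    have key : ∀ i k, (∑ j, a i j * t j k) - (if k = i then 1 else 0) ∈ J := by
      intro i k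
      have h1 : τ (y i) = ∑ k, (∑ j, a i j * t j k) • b k := by
        conv_lhs => rw [hz i]
        rw [map_sum]
        simp only [Finset.sum_smul]
        rw [Finset.sum_comm]
        refine Finset.sum_congr rfl fun j _ => ?_
        rw [map_smul]
        have h2 : τ (z j) = ∑ k, t j k • b k := by
          have h3 := ht j
          rw [← hτ, LinearMap.mem_ker, map_sub, sub_eq_zero, map_sum] at h3
          rw [h3]
          refine Finset.sum_congr rfl fun k _ => ?_
          rw [map_smul, hy]
        rw [h2, Finset.smul_sum]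
        refine Finset.sum_congr rfl fun k _ => ?_
        rw [mul_smul]
      have h4 : b.repr (τ (y i)) k = Ideal.Quotient.mk J (∑ j, a i j * t j k) := by
        rw [h1]
        simp only [hmk]
        rw [map_sum, Finsupp.finsetSum_apply, Finset.sum_eq_single k]
        · rw [map_smul, b.repr_self, Finsupp.smul_apply, Finsupp.single_eq_same, smul_eq_mul, mul_one]
        · intro k' _ hk'
          rw [map_smul, b.repr_self, Finsupp.smul_apply, Finsupp.single_eq_of_ne (Ne.symm hk'), smul_zero]
        · intro h
          exact absurd (Finset.mem_univ k) h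
      rw [hy, b.repr_self, Finsupp.single_apply] at h4
      rw [← Ideal.Quotient.eq_zero_iff_mem, map_sub, ← h4]
      split_ifs with h5 h6 h6
      · simp
      · exact absurd h5.symm h6
      · exact absurd h6.symm h5
      · simp
    have h6 : ∀ k, r k = - ∑ i, r i * ((∑ j, a i j * t j k) - (if k = i then 1 else 0)) := by
      intro k
      have h7 : ∑ i, r i * ∑ j, a i j * t j k = 0 := by
        simp only [Finset.mul_sum]
        rw [Finset.sum_comm]
        refine Finset.sum_eq_zero fun j _ => ?_
        simp only [← mul_assoc]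
        rw [← Finset.sum_mul, ha j, zero_mul]
      simp only [mul_sub]
      rw [Finset.sum_sub_distrib, h7, zero_sub, neg_neg]
      simp
    have h8 : ∀ k, r k ∈ J := by
      intro k
      rw [h6 k]
      exact J.neg_mem (J.sum_mem fun i _ => J.mul_mem_left _ (key i k))
    intro k
    rw [h6 k, neg_eq_zero]
    exact Finset.sum_eq_zero fun i _ => hJJ _ (h8 i) _ (key i k)
  exact ⟨Module.Basis.mk hli hspan, fun k => Module.Basis.mk_apply hli hspan k⟩

/-- A direct factor of a flat algebra is flat. -/
theorem flat_quotient_span_idempotent {E G : Type*} [CommRing E] [CommRing G] [Algebra E G] [Module.Flat E G]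
    {e : G} (he : IsIdempotentElem e) : Module.Flat E (G ⧸ Ideal.span {e}) := by
  let s : (G ⧸ Ideal.span {e}) →ₗ[E] G :=
    (Submodule.liftQ ((Ideal.span {e} : Ideal G).restrictScalars E)
      ((LinearMap.mulRight E (1 - e)) : G →ₗ[E] G) (by
        intro x hx
        rw [Submodule.restrictScalars_mem, Ideal.mem_span_singleton'] at hx
        obtain ⟨a, rfl⟩ := hx
        rw [LinearMap.mem_ker, LinearMap.mulRight_apply, mul_assoc, mul_sub, mul_one, he.eq, sub_self, mul_zero]))
  refine Module.Flat.of_retract s ((Ideal.Quotient.mkₐ E (Ideal.span {e})).toLinearMap) ?_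
  apply LinearMap.ext
  intro x
  obtain ⟨x, rfl⟩ := Ideal.Quotient.mk_surjective x
  change Ideal.Quotient.mk (Ideal.span {e}) (x * (1 - e)) = Ideal.Quotient.mk (Ideal.span {e}) x
  rw [Ideal.Quotient.eq]
  have : x * (1 - e) - x = -x * e := by ring
  rw [this]
  exact Ideal.mul_mem_left _ _ (Ideal.mem_span_singleton_self e)

end K628.Artin
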