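import Groth.Agent.Ega43.FlatFibreCrit
import Mathlib.RingTheory.NoetherNormalization
import Mathlib.Algebra.MvPolynomial.Funext
import Mathlib.RingTheory.RingHom.Flat
import Mathlib.RingTheory.Finiteness.ModuleFinitePresentation

/-!
# Flat quasi-finite slices of an algebra over an infinite field (helper628)
-/

set_option autoImplicit false

universe u

open MvPolynomial

namespace K628.Artin

theorem exists_eval_ne_zero {k : Type u} [Field k] [Infinite k] {n : ℕ} {a : MvPolynomial (Fin n) k} (ha : a ≠ 0) :
    ∃ y : Fin n → k, eval y a ≠ 0 := by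
  by_contra h
  push Not at h
  exact ha (MvPolynomial.funext fun y => by rw [h y, map_zero])

/-- a nonzero finitely generated algebra `R` over an infinite field contains `f₁, …, f_n` with `R/(f)` finite and
nonzero and `k[x] → R`, `x_i ↦ f_i` flat at the primes containing `f`. -/
theorem exists_flat_slice (k R : Type u) [Field k] [Infinite k] [CommRing R] [Nontrivial R] [Algebra k R]
    [Algebra.FiniteType k R] :
    ∃ (n : ℕ) (f : Fin n → R), Ideal.span (Set.range f) ≠ ⊤ ∧
      Module.Finite k (R ⧸ Ideal.span (Set.range f)) ∧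
      ∀ (P : Ideal R) [P.IsPrime], (∀ i, f i ∈ P) →
        ((algebraMap R (Localization.AtPrime P)).comp (aeval (R := k) f : MvPolynomial (Fin n) k →ₐ[k] R).toRingHom).Flat := by
  obtain ⟨n, g, hinj, hfin⟩ := exists_finite_inj_algHom_of_fg k R
  let _ : Algebra (MvPolynomial (Fin n) k) R := g.toRingHom.toAlgebra
  have hst : IsScalarTower k (MvPolynomial (Fin n) k) R := IsScalarTower.of_algebraMap_eq fun x => (g.commutes x).symm
  have hfin' : Module.Finite (MvPolynomial (Fin n) k) R := hfin
  have hft : Algebra.FiniteType (MvPolynomial (Fin n) k) R := inferInstance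
  obtain ⟨a, ha, hflat⟩ := Groth.Agent.Ega43.FlatFibreCrit.exists_forall_flat (MvPolynomial (Fin n) k) R
  obtain ⟨y, hy⟩ := exists_eval_ne_zero ha
  let f : Fin n → R := fun i => g (X i) - algebraMap k R (y i)
  -- the shift
  let σ : MvPolynomial (Fin n) k →ₐ[k] MvPolynomial (Fin n) k := aeval fun i => X i - C (y i)
  let τ : MvPolynomial (Fin n) k →ₐ[k] MvPolynomial (Fin n) k := aeval fun i => X i + C (y i)
  have h1 : σ.comp τ = AlgHom.id k _ := by
    ext i
    simp [σ, τ]
  have h2 : τ.comp σ = AlgHom.id k _ := by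
    ext i
    simp [σ, τ]
  have hσ : Function.Bijective σ := by
    refine Function.bijective_iff_has_inverse.2 ⟨τ, fun x => ?_, fun x => ?_⟩
    · exact DFunLike.congr_fun h2 x
    · exact DFunLike.congr_fun h1 x
  have hfσ : (aeval (R := k) f : MvPolynomial (Fin n) k →ₐ[k] R) = g.comp σ := by
    ext i
    simp only [aeval_X, AlgHom.comp_apply, σ, map_sub, f]
    congr 1
    exact (g.commutes (y i)).symm
  -- reduction modulo an ideal containing `f`
  have hred : ∀ (I : Ideal R), (∀ i, f i ∈ I) → ∀ p : MvPolynomial (Fin n) k,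
      Ideal.Quotient.mk I (g p) = algebraMap k (R ⧸ I) (eval y p) := by
    intro I hI p
    have : ((Ideal.Quotient.mkₐ k I).comp g) = (Algebra.ofId k (R ⧸ I)).comp (aeval y : MvPolynomial (Fin n) k →ₐ[k] k) := by
      ext i
      simp only [AlgHom.comp_apply, aeval_X]
      change Ideal.Quotient.mk I (g (X i)) = Ideal.Quotient.mk I (algebraMap k R (y i))
      rw [Ideal.Quotient.eq]
      exact hI i
    have h3 := DFunLike.congr_fun this p
    simp only [AlgHom.comp_apply, Ideal.Quotient.mkₐ_eq_mk] at h3
    rw [h3]
    rfl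
  refine ⟨n, f, ?_, ?_, ?_⟩
  · -- lying over
    let m : Ideal (MvPolynomial (Fin n) k) := RingHom.ker (eval y)
    have hm : m.IsMaximal := RingHom.ker_isMaximal_of_surjective _ fun c => ⟨C c, eval_C c⟩
    have hint : Algebra.IsIntegral (MvPolynomial (Fin n) k) R := inferInstance
    obtain ⟨Q, hQ, hQm⟩ := Ideal.exists_ideal_over_maximal_of_isIntegral (S := R) m (by
      have : RingHom.ker (algebraMap (MvPolynomial (Fin n) k) R) = ⊥ := (RingHom.injective_iff_ker_eq_bot _).1 hinj
      rw [this]
      exact bot_le)
    intro h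
    apply hQ.ne_top
    rw [eq_top_iff, ← h, Ideal.span_le]
    rintro _ ⟨i, rfl⟩
    have : X i - C (y i) ∈ Q.comap (algebraMap (MvPolynomial (Fin n) k) R) := by
      rw [hQm, RingHom.mem_ker]
      simp
    have h3 : g (X i - C (y i)) ∈ Q := this
    rw [map_sub] at h3
    change g (X i) - algebraMap k R (y i) ∈ Q
    rwa [← g.commutes]
  · have h4 : ((algebraMap k (R ⧸ Ideal.span (Set.range f))).comp (eval y)).Finite := by
      have h5 : (algebraMap k (R ⧸ Ideal.span (Set.range f))).comp (eval y) =
          (Ideal.Quotient.mk (Ideal.span (Set.range f))).comp g.toRingHom := by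
        ext x
        · exact (hred _ (fun i => Ideal.subset_span (Set.mem_range_self i)) (C x)).symm
        · exact (hred _ (fun i => Ideal.subset_span (Set.mem_range_self i)) (X x)).symm
      rw [h5]
      exact (RingHom.Finite.of_surjective _ Ideal.Quotient.mk_surjective).comp hfin
    exact RingHom.finite_algebraMap.1 (RingHom.Finite.of_comp_finite h4)
  · intro P hP hfP
    rw [hfσ]
    have h6 : (algebraMap (MvPolynomial (Fin n) k) (Localization.AtPrime P)).Flat := by
      rw [RingHom.flat_algebraMap_iff]
      apply hflat P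
      intro h7
      have h8 : Ideal.Quotient.mk P (g a) = 0 := Ideal.Quotient.eq_zero_iff_mem.2 h7
      rw [hred P hfP a] at h8
      exact hy ((map_eq_zero_iff _ (algebraMap k (R ⧸ P)).injective).1 h8)
    have h9 : (σ : MvPolynomial (Fin n) k →+* MvPolynomial (Fin n) k).Flat := RingHom.Flat.of_bijective hσ
    have h10 := h9.comp h6
    exact h10

end K628.Artin
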