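import Groth.Agent.AlgSp.K628.Artin.Slice4
import Groth.Agent.AlgSp.K628.Artin.NN

/-!
# The universal algebra has a smooth point (helper628)
-/

set_option autoImplicit false

universe u

open TensorProduct MvPolynomial

namespace K628.Artin

/-- The universal property of `(D, c, φ)` : `D` represents pairs (algebra structure on `E^d`, `A`-algebra map from
`C` to it). -/
def IsUniv {A C D : Type u} [CommRing A] [CommRing C] [CommRing D] [Algebra A C] [Algebra A D] {d : ℕ}
    (c : Str d D) (φ : C →ₐ[A] c.Alg) : Prop :=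
  ∀ (E : Type u) [CommRing E] [Algebra A E] (cE : Str d E) (φE : C →ₐ[A] cE.Alg),
    ∃! t : D →ₐ[A] E, c.map t.toRingHom = cE ∧ ∀ x k, t (c.coe (φ x) k) = cE.coe (φE x) k

/-- base change of an algebra map along `t` -/
noncomputable def mapAlg {A C D E : Type u} [CommRing A] [CommRing C] [CommRing D] [CommRing E] [Algebra A C]
    [Algebra A D] [Algebra A E] {d : ℕ} (c : Str d D) (φ : C →ₐ[A] c.Alg) (t : D →ₐ[A] E) :
    C →ₐ[A] (c.map t.toRingHom).Alg :=
  { (c.mapHom t.toRingHom).comp φ.toRingHom with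
    commutes' := fun r => by
      change c.mapHom t.toRingHom (φ (algebraMap A C r)) = _
      rw [φ.commutes]
      have h1 : algebraMap A c.Alg r = algebraMap D c.Alg (algebraMap A D r) :=
        IsScalarTower.algebraMap_apply A D c.Alg r
      rw [h1, Str.mapHom_algebraMap]
      have h2 : t.toRingHom (algebraMap A D r) = algebraMap A E r := t.commutes r
      rw [h2, ← IsScalarTower.algebraMap_apply] }

theorem coe_mapAlg {A C D E : Type u} [CommRing A] [CommRing C] [CommRing D] [CommRing E] [Algebra A C]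
    [Algebra A D] [Algebra A E] {d : ℕ} (c : Str d D) (φ : C →ₐ[A] c.Alg) (t : D →ₐ[A] E) (x : C) (k : Fin d) :
    (c.map t.toRingHom).coe (mapAlg c φ t x) k = t (c.coe (φ x) k) := rfl

/-- The core: `K` an infinite field, `A → K` surjective, `C` flat and of finite presentation with `K ⊗ C ≠ 0`. -/
theorem exists_formallySmooth_point {A K C : Type u} [CommRing A] [Field K] [Infinite K] [Algebra A K]
    (hAK : Function.Surjective (algebraMap A K)) [CommRing C] [Algebra A C] [Algebra.FinitePresentation A C]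
    [Module.Flat A C] [Nontrivial (K ⊗[A] C)] :
    ∃ d : ℕ, 0 < d ∧ ∀ (D : Type u) [CommRing D] [Algebra A D] (c : Str d D) (φ : C →ₐ[A] c.Alg), IsUniv c φ →
      ∃ (t : D →ₐ[A] K) (q : Ideal D) (_ : q.IsPrime), q = RingHom.ker t ∧
        Algebra.FormallySmooth A (Localization.AtPrime q) := by
  classical
  obtain ⟨n, f', hf1, hf2, hf3⟩ := exists_flat_slice K (K ⊗[A] C)
  have hsurj : ∀ y : K ⊗[A] C, ∃ x : C, (1 : K) ⊗ₜ[A] x = y := by
    intro y
    induction y using TensorProduct.induction_on with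
    | zero => exact ⟨0, tmul_zero _ _⟩
    | add x y hx hy =>
      obtain ⟨x, rfl⟩ := hx
      obtain ⟨y, rfl⟩ := hy
      exact ⟨x + y, tmul_add _ _ _⟩
    | tmul k x =>
      obtain ⟨a, rfl⟩ := hAK k
      exact ⟨a • x, by rw [← smul_tmul, Algebra.smul_def, mul_one]⟩
  choose f hf using fun i => hsurj (f' i)
  have hff : f' = fun i => (1 : K) ⊗ₜ[A] f i := (funext hf).symm
  subst hff
  have hnt : Nontrivial (K ⊗[A] C ⧸ IK A K C f) := Ideal.Quotient.nontrivial_iff.2 hf1
  have hfin : Module.Finite K (K ⊗[A] C ⧸ IK A K C f) := hf2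
  let d := Module.finrank K (K ⊗[A] C ⧸ IK A K C f)
  have hd : 0 < d := Module.finrank_pos
  let b : Module.Basis (Fin d) K (K ⊗[A] C ⧸ IK A K C f) := Module.finBasis K _
  choose y hy using fun j => Ideal.Quotient.mk_surjective (b j)
  choose g hg using fun j => hsurj (y j)
  have hb : ∀ j, b j = Ideal.Quotient.mk (IK A K C f) (1 ⊗ₜ g j) := fun j => by rw [hg, hy]
  refine ⟨d, hd, ?_⟩
  intro D _ _ c φ huniv
  -- the point
  let B₀ := K ⊗[A] C ⧸ IK A K C f
  let φ₀ : C →ₐ[A] (Str.ofBasis b).Alg :=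
    (((Str.ofBasisEquiv b).toAlgHom.comp (Ideal.Quotient.mkₐ K (IK A K C f))).restrictScalars A).comp
      Algebra.TensorProduct.includeRight
  have hφ₀ : ∀ x k, (Str.ofBasis b).coe (φ₀ x) k = b.repr (Ideal.Quotient.mk (IK A K C f) (1 ⊗ₜ x)) k :=
    fun x k => Str.coe_ofBasisEquiv b _ k
  obtain ⟨t, ⟨ht1, ht2⟩, -⟩ := huniv K (Str.ofBasis b) φ₀
  have hts : Function.Surjective t := fun k => by
    obtain ⟨a, rfl⟩ := hAK k
    exact ⟨algebraMap A D a, t.commutes a⟩
  let q : Ideal D := RingHom.ker t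
  have hq : q.IsPrime := RingHom.ker_isPrime t
  refine ⟨t, q, hq, rfl, ?_⟩
  let D' := Localization.AtPrime q
  have hunit : ∀ x : q.primeCompl, IsUnit (t x) := fun x => isUnit_iff_ne_zero.2 fun h => x.2 h
  let v : D' →ₐ[A] K := IsLocalization.liftAlgHom (M := q.primeCompl) (f := t) hunit
  have hv0 : ∀ x, v (algebraMap D D' x) = t x := fun x => IsLocalization.lift_eq _ _
  have hv : Function.Surjective v := fun k => by
    obtain ⟨x, rfl⟩ := hts k
    exact ⟨algebraMap D D' x, hv0 x⟩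
  let ℓ : D →ₐ[A] D' := IsScalarTower.toAlgHom A D D'
  let c' : Str d D' := c.map ℓ.toRingHom
  let φ' : C →ₐ[A] c'.Alg := mapAlg c φ ℓ
  have hφ' : ∀ x k, v (c'.coe (φ' x) k) = b.repr (Ideal.Quotient.mk (IK A K C f) (1 ⊗ₜ x)) k := by
    intro x k
    change v (algebraMap D D' (c.coe (φ x) k)) = _
    rw [hv0, ht2, hφ₀]
  -- the family of slices
  obtain ⟨γ, hγ1, hγ2, hγ3⟩ := exists_gamma (d := d) f g hAK hf3
  let G := Localization.Away γ
  let _ : Algebra (R1 A n d) G := ((algebraMap (CC A C n d) G).comp (evF A C f g).toRingHom).toAlgebra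
  have hG : GData (K := K) f g G (algebraMap (CC A C n d) G) γ :=
    { alg := fun r => rfl
      flat := hγ2
      fp := hγ3
      surj := fun y => by
        obtain ⟨⟨z, ⟨_, m, rfl⟩⟩, hz⟩ := IsLocalization.surj (Submonoid.powers γ) y
        exact ⟨z, m, by rw [← map_pow]; exact hz⟩
      lift := fun O _ β hβ => ⟨IsLocalization.Away.lift γ hβ, fun z => IsLocalization.Away.lift_eq γ hβ z⟩
      one := hγ1 }
  refine formallySmooth_point hG b hb v hv c' φ' hφ' ?_
  intro E _ _ J hJ ψ cE φE h1 h2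
  obtain ⟨s, ⟨hs1, hs2⟩, -⟩ := huniv E cE φE
  obtain ⟨s₀, -, hs₀⟩ := huniv (E ⧸ J) (c.map (ψ.comp ℓ).toRingHom) (mapAlg c φ (ψ.comp ℓ))
  have e1 : (Ideal.Quotient.mkₐ A J).comp s = ψ.comp ℓ := by
    rw [hs₀ (ψ.comp ℓ) ⟨rfl, fun x k => rfl⟩]
    apply hs₀
    refine ⟨?_, ?_⟩
    · have h3 : c.map ((Ideal.Quotient.mkₐ A J).comp s).toRingHom = (c.map s.toRingHom).map (Ideal.Quotient.mk J) := rfl
      rw [h3, hs1, h1]
      rfl
    · intro x k
      change Ideal.Quotient.mk J (s (c.coe (φ x) k)) = ψ (ℓ (c.coe (φ x) k))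
      rw [hs2, h2]
      rfl
  have hsu : ∀ x : q.primeCompl, IsUnit (s x) := by
    intro x
    have h3 : IsUnit (Ideal.Quotient.mk J (s x)) := by
      have h4 : Ideal.Quotient.mk J (s x) = ψ (algebraMap D D' x) := AlgHom.congr_fun e1 x
      rw [h4]
      exact (IsLocalization.map_units D' x).map ψ
    have h5 : IsNilpotent J := ⟨2, hJ⟩
    exact (IsNilpotent.isUnit_quotient_mk_iff h5).1 h3
  refine ⟨IsLocalization.liftAlgHom (M := q.primeCompl) (f := s) hsu, ?_⟩
  apply AlgHom.coe_ringHom_injective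
  apply IsLocalization.ringHom_ext q.primeCompl
  apply RingHom.ext
  intro x
  change Ideal.Quotient.mk J (IsLocalization.lift (M := q.primeCompl) (g := s.toRingHom) hsu (algebraMap D D' x)) = _
  rw [IsLocalization.lift_eq]
  exact AlgHom.congr_fun e1 x

end K628.Artin
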