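import Groth.Agent.AlgSp.K628.Artin.Final
import Groth.Agent.AlgSt.K744.Art.Univ

/-!
# The ring theorem in the vocabulary `K744.Pt` (helper628)
-/

set_option autoImplicit false

universe u

open TensorProduct

namespace K628.Artin

section tr

variable {n : ℕ} {C : Type u} [CommRing C]

/-- from `SC` to `Str` -/
def toStr (β : K744.SC n C) : Str n C := ⟨β.m, β.e, β.comm, β.assoc, β.one⟩

/-- from `Str` to `SC` -/
def toSC (c : Str n C) : K744.SC n C := ⟨c.m, c.o, c.comm, c.assoc, c.one_mul⟩

/-- the algebras agree -/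
def algEquiv (β : K744.SC n C) : β.Alg ≃+* (toStr β).Alg where
  toFun x := (toStr β).vec x.c
  invFun x := ⟨(toStr β).coe x⟩
  left_inv _ := rfl
  right_inv _ := rfl
  map_mul' x y := by
    apply (toStr β).coe_injective
    funext k
    rw [Str.coe_vec, K744.SC.Alg.mul_c, Str.coe_mul]
    rfl
  map_add' _ _ := rfl

/-- the algebras agree -/
def algEquiv' (c : Str n C) : c.Alg ≃+* (toSC c).Alg where
  toFun x := ⟨c.coe x⟩
  invFun x := c.vec x.c
  left_inv _ := rfl
  right_inv _ := rfl
  map_mul' x y := by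
    apply K744.SC.Alg.c_injective
    funext k
    rw [K744.SC.Alg.mul_c]
    exact Str.coe_mul c x y k
  map_add' _ _ := rfl

end tr

variable {R A : Type u} [CommRing R] [CommRing A] [Algebra R A] {n : ℕ}

/-- the algebra map of a point -/
noncomputable def phiPt {C : Type u} [CommRing C] [Algebra R C] (x : K744.Pt R A n C) : A →ₐ[R] (toStr x.β).Alg :=
  { (algEquiv x.β).toRingHom.comp x.φ with
    commutes' := fun r => by
      apply (toStr x.β).coe_injective
      funext k
      change (x.φ (algebraMap R A r)).c k = _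
      rw [x.w, K744.SC.Alg.algebraMap_c, Str.algebraMap_coe]
      rfl }

theorem coe_phiPt {C : Type u} [CommRing C] [Algebra R C] (x : K744.Pt R A n C) (a : A) (k : Fin n) :
    (toStr x.β).coe (phiPt x a) k = (x.φ a).c k := rfl

/-- the point of a pair -/
noncomputable def mkPt {C : Type u} [CommRing C] [Algebra R C] (c : Str n C) (φ : A →ₐ[R] c.Alg) : K744.Pt R A n C where
  β := toSC c
  φ := (algEquiv' c).toRingHom.comp φ.toRingHom
  w r := by
    apply K744.SC.Alg.c_injective
    funext k
    change c.coe (φ (algebraMap R A r)) k = _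
    rw [φ.commutes, K744.SC.Alg.algebraMap_c, Str.algebraMap_coe]
    rfl

theorem isUniv_of_pt {P : Type u} [CommRing P] [Algebra R P] (ξ : K744.Pt R A n P)
    (hξ : ∀ (C : Type u) [CommRing C] [Algebra R C] (x : K744.Pt R A n C), ∃! t : P →ₐ[R] C, ξ.map t = x) :
    IsUniv (toStr ξ.β) (phiPt ξ) := by
  intro E _ _ cE φE
  have key : ∀ t : P →ₐ[R] E, ξ.map t = mkPt cE φE ↔
      ((toStr ξ.β).map t.toRingHom = cE ∧ ∀ x k, t ((toStr ξ.β).coe (phiPt ξ x) k) = cE.coe (φE x) k) := by
    intro t
    constructor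
    · intro h
      refine ⟨?_, fun x k => ?_⟩
      · have h1 : (ξ.map t).β = toSC cE := congrArg K744.Pt.β h
        apply Str.ext
        · exact congrArg K744.SC.m h1
        · exact congrArg K744.SC.e h1
      · have h1 := congrArg (fun y : K744.Pt R A n E => (y.φ x).c k) h
        exact h1
    · rintro ⟨h1, h2⟩
      apply K744.Pt.ext'
      · apply K744.SC.ext
        · exact congrArg Str.m h1
        · exact congrArg Str.o h1
      · intro a
        funext k
        exact h2 a k
  obtain ⟨t, ht1, ht2⟩ := hξ E (mkPt cE φE)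
  exact ⟨t, (key t).1 ht1, fun t' ht' => ht2 t' ((key t').2 ht')⟩

open CategoryTheory AlgebraicGeometry in
/-- **The ring theorem**, in the vocabulary of `K744.Pt`. -/
theorem exists_smooth_point_pt {R A : Type u} [CommRing R] [CommRing A] [Algebra R A] [Module.Flat R A]
    [Algebra.FinitePresentation R A] (P₀ : Ideal A) [P₀.IsPrime] :
    ∃ n : ℕ, 0 < n ∧ ∀ (P : Type u) [CommRing P] [Algebra R P] [Algebra.FinitePresentation R P]
      (ξ : K744.Pt R A n P), (∀ (C : Type u) [CommRing C] [Algebra R C] (x : K744.Pt R A n C),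
        ∃! t : P →ₐ[R] C, ξ.map t = x) →
      ∃ q : PrimeSpectrum P, q.comap (algebraMap R P) = (⟨P₀, inferInstance⟩ : PrimeSpectrum A).comap (algebraMap R A) ∧
        ∀ [LocallyOfFinitePresentation (Spec.map (CommRingCat.ofHom (algebraMap R P)))],
          (q : Spec (.of P)) ∈ (Spec.map (CommRingCat.ofHom (algebraMap R P))).smoothLocus := by
  obtain ⟨n, hn, H⟩ := exists_smooth_point (A := R) (C₀ := A) P₀
  refine ⟨n, hn, ?_⟩
  intro P _ _ _ ξ hξ
  exact H P (toStr ξ.β) (phiPt ξ) (isUniv_of_pt ξ hξ)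

end K628.Artin
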