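import Groth.Agent.AlgSp.K628.Artin.GAlg
import Groth.Agent.AlgSp.K628.Artin.Lift
import Mathlib.LinearAlgebra.Determinant
import Mathlib.RingTheory.Ideal.GoingUp
import Mathlib.RingTheory.LocalRing.Basic

/-!
# The finite algebra over the local ring of a point is a clopen piece of the family of slices (helper628)
-/

set_option autoImplicit false

universe u

open TensorProduct MvPolynomial

namespace K628.Artin

/-- `A[a][x]` -/
abbrev R1 (A : Type u) [CommRing A] (n d : ℕ) : Type u := MvPolynomial (Fin n) (Lam A n d)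

/-- `A[a][x] → E` : `a_ij ↦ a (i,j)`, `x ↦ 0` -/
noncomputable def eps {A E : Type u} [CommRing A] [CommRing E] [Algebra A E] {n d : ℕ} (a : Fin n × Fin d → E) :
    R1 A n d →+* E := (aeval a : Lam A n d →ₐ[A] E).toRingHom.comp MvPolynomial.constantCoeff

theorem eps_C {A E : Type u} [CommRing A] [CommRing E] [Algebra A E] {n d : ℕ} (a : Fin n × Fin d → E)
    (l : Lam A n d) : eps a (C l) = aeval a l := by
  simp [eps]

theorem eps_X {A E : Type u} [CommRing A] [CommRing E] [Algebra A E] {n d : ℕ} (a : Fin n × Fin d → E)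
    (i : Fin n) : eps (A := A) a (X i) = 0 := by
  simp [eps]

section point

variable {A K C D : Type u} [CommRing A] [Field K] [CommRing C] [CommRing D] [Algebra A K] [Algebra A C]
  [Algebra A D] {n d : ℕ} (f : Fin n → C) (g : Fin d → C)
  (b : Module.Basis (Fin d) K (K ⊗[A] C ⧸ IK A K C f)) (hb : ∀ j, b j = Ideal.Quotient.mk _ (1 ⊗ₜ g j))
  (v : D →ₐ[A] K) (hv : Function.Surjective v) [IsLocalRing D] (c : Str d D) (φ : C →ₐ[A] c.Alg)
  (hφ : ∀ x k, v (c.coe (φ x) k) = b.repr (Ideal.Quotient.mk _ (1 ⊗ₜ x)) k)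

include hv in
theorem mem_maximal_iff (x : D) : x ∈ IsLocalRing.maximalIdeal D ↔ v x = 0 := by
  have : RingHom.ker v = IsLocalRing.maximalIdeal D := IsLocalRing.eq_maximalIdeal (RingHom.ker_isMaximal_of_surjective _ hv)
  rw [← this, RingHom.mem_ker]

include hb hv hφ in
/-- The `g_j` form a basis of the finite algebra over the local ring of the point. -/
theorem exists_basis_g : ∃ bO : Module.Basis (Fin d) D c.Alg, ∀ j, bO j = φ (g j) := by
  classical
  have h1 : v (c.bas.det fun j => φ (g j)) = 1 := by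
    rw [Module.Basis.det_apply]
    change v.toRingHom (Matrix.det _) = 1
    rw [RingHom.map_det]
    have : v.toRingHom.mapMatrix (c.bas.toMatrix fun j => φ (g j)) = 1 := by
      ext k j
      rw [RingHom.mapMatrix_apply, Matrix.map_apply, Module.Basis.toMatrix_apply, Str.repr_bas]
      change v (c.coe (φ (g j)) k) = _
      rw [hφ, ← hb, b.repr_self, Matrix.one_apply, Finsupp.single_apply]
      simp only [eq_comm]
    rw [this, Matrix.det_one]
  have h2 : IsUnit (c.bas.det fun j => φ (g j)) := by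
    by_contra h
    have h3 := (mem_maximal_iff v hv _).1 ((IsLocalRing.mem_maximalIdeal _).2 h)
    rw [h1] at h3
    exact one_ne_zero h3
  obtain ⟨hli, hsp⟩ := (Module.Basis.is_basis_iff_det c.bas).2 h2
  exact ⟨Module.Basis.mk hli hsp.ge, fun j => Module.Basis.mk_apply _ _ _⟩

omit [IsLocalRing D] in
include hb hφ in
theorem v_coord (bO : Module.Basis (Fin d) D c.Alg) (hbO : ∀ j, bO j = φ (g j)) (i : Fin n) (k : Fin d) :
    v (bO.repr (φ (f i)) k) = 0 := by
  have h1 : φ (f i) = ∑ j, bO.repr (φ (f i)) j • φ (g j) := by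
    conv_lhs => rw [← bO.sum_repr (φ (f i))]
    simp only [hbO]
  have h2 : v (c.coe (φ (f i)) k) = ∑ j, v (bO.repr (φ (f i)) j) * v (c.coe (φ (g j)) k) := by
    conv_lhs => rw [h1]
    rw [Str.coe_sum, map_sum]
    refine Finset.sum_congr rfl fun j _ => ?_
    rw [Str.coe_smul, Pi.smul_apply, smul_eq_mul, map_mul]
  rw [hφ] at h2
  have h3 : (Ideal.Quotient.mk (IK A K C f) (1 ⊗ₜ f i)) = 0 :=
    Ideal.Quotient.eq_zero_iff_mem.2 (Ideal.subset_span (Set.mem_range_self i))
  rw [h3, map_zero, Finsupp.zero_apply, Finset.sum_eq_single k] at h2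
  · rw [hφ, ← hb, b.repr_self, Finsupp.single_eq_same, mul_one] at h2
    exact h2.symm
  · intro j _ hj
    rw [hφ, ← hb, b.repr_self, Finsupp.single_eq_of_ne (Ne.symm hj), mul_zero]
  · intro h
    exact absurd (Finset.mem_univ k) h

/-- `C[a] → O` -/
noncomputable def bCC {O : Type u} [CommRing O] [Algebra A O] [Algebra D O] (a : Fin n × Fin d → D)
    (φ : C →ₐ[A] O) : CC A C n d →ₐ[A] O :=
  Algebra.TensorProduct.productMap (aeval (fun i => algebraMap D O (a i))) φ

omit [IsLocalRing D] in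
theorem bCC_tmul {O : Type u} [CommRing O] [Algebra A O] [Algebra D O] [IsScalarTower A D O] (a : Fin n × Fin d → D)
    (φ : C →ₐ[A] O) (l : Lam A n d) (x : C) : bCC a φ (l ⊗ₜ x) = algebraMap D O (aeval a l) * φ x := by
  rw [bCC, Algebra.TensorProduct.productMap_apply_tmul]
  congr 1
  have : (aeval (fun i => algebraMap D O (a i)) : Lam A n d →ₐ[A] O) = (IsScalarTower.toAlgHom A D O).comp (aeval a) := by
    ext i
    simp
  rw [this]
  rfl

omit [IsLocalRing D] in
theorem bCC_FF {O : Type u} [CommRing O] [Algebra A O] [Algebra D O] [IsScalarTower A D O] (a : Fin n × Fin d → D)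
    (φ : C →ₐ[A] O) (h : ∀ i, φ (f i) = ∑ j, algebraMap D O (a (i, j)) * φ (g j)) (i : Fin n) :
    bCC a φ (FF A C f g i) = 0 := by
  rw [FF, map_sub, map_sum, bCC_tmul]
  simp only [bCC_tmul, aeval_X]
  rw [map_one, map_one, one_mul, h, sub_self]

omit [IsLocalRing D] in
theorem bCC_evF {O : Type u} [CommRing O] [Algebra A O] [Algebra D O] [IsScalarTower A D O] (a : Fin n × Fin d → D)
    (φ : C →ₐ[A] O) (h : ∀ i, φ (f i) = ∑ j, algebraMap D O (a (i, j)) * φ (g j)) (r : R1 A n d) :
    bCC a φ (evF A C f g r) = algebraMap D O (eps a r) := by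
  have h1 : (bCC a φ : CC A C n d →ₐ[A] O).toRingHom.comp (evF A C f g).toRingHom = (algebraMap D O).comp (eps a) := by
    apply MvPolynomial.ringHom_ext
    · intro l
      have h2 : evF A C f g (MvPolynomial.C l) = l ⊗ₜ 1 := (evF A C f g).commutes l
      change bCC a φ (evF A C f g (MvPolynomial.C l)) = algebraMap D O (eps a (MvPolynomial.C l))
      rw [h2, bCC_tmul, map_one, mul_one, eps_C]
    · intro i
      change bCC a φ (evF A C f g (X i)) = algebraMap D O (eps a (X i))
      rw [evF, aeval_X, bCC_FF f g a φ h, eps_X, map_zero]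
  exact RingHom.congr_fun h1 r

omit [IsLocalRing D] in
include hφ in
/-- Reduction of `C[a] → c.Alg` at the point. -/
theorem v_bCC (a : Fin n × Fin d → D) (ha : ∀ i, v (a i) = 0) (z : CC A C n d) (k : Fin d) :
    v (c.coe (bCC a φ z) k) = b.repr (Ideal.Quotient.mk (IK A K C f) (rho A K C n d z)) k := by
  induction z using TensorProduct.induction_on with
  | zero => simp
  | add x y hx hy =>
    rw [map_add, Str.coe_add, Pi.add_apply, map_add, hx, hy, map_add, map_add, map_add, Finsupp.add_apply]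
  | tmul l x =>
    rw [bCC_tmul, rho_tmul, ← Algebra.smul_def, Str.coe_smul, Pi.smul_apply, smul_eq_mul, map_mul, hφ]
    have h1 : (v : D →ₐ[A] K) (aeval a l) = ev0 A K n d l := by
      have : v.comp (aeval a : Lam A n d →ₐ[A] D) = ev0 A K n d := by
        ext i
        simp [ev0, ha]
      exact AlgHom.congr_fun this l
    rw [h1]
    have h2 : (ev0 A K n d l) ⊗ₜ[A] x = ev0 A K n d l • ((1 : K) ⊗ₜ[A] x) := by
      rw [smul_tmul', smul_eq_mul, mul_one]
    rw [h2]
    have h3 : Ideal.Quotient.mk (IK A K C f) (ev0 A K n d l • ((1 : K) ⊗ₜ[A] x)) =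
        ev0 A K n d l • Ideal.Quotient.mk (IK A K C f) ((1 : K) ⊗ₜ[A] x) := rfl
    rw [h3, map_smul, Finsupp.smul_apply, smul_eq_mul]

include hv in
/-- An element of `c.Alg` congruent to `1` at the point is a unit. -/
theorem isUnit_of_v (x : c.Alg) (hx : ∀ k, v (c.coe x k) = v (c.o k)) : IsUnit x := by
  by_contra h
  obtain ⟨M, hM, hxM⟩ := exists_max_ideal_of_mem_nonunits h
  have h1 : (M.comap (algebraMap D c.Alg)).IsMaximal := Ideal.isMaximal_comap_of_isIntegral_of_isMaximal M
  have h2 := IsLocalRing.eq_maximalIdeal h1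
  apply hM.ne_top
  rw [Ideal.eq_top_iff_one]
  have h3 : (1 : c.Alg) - x ∈ M := by
    rw [c.eq_sum_bas (1 - x)]
    refine M.sum_mem fun k _ => ?_
    rw [Algebra.smul_def]
    refine M.mul_mem_right _ ?_
    have h4 : c.coe (1 - x) k ∈ M.comap (algebraMap D c.Alg) := by
      rw [h2, mem_maximal_iff v hv]
      change v (c.coe 1 k - c.coe x k) = 0
      rw [map_sub, hx, Str.coe_one, sub_self]
    exact h4
  have := M.add_mem h3 hxM
  rwa [sub_add_cancel] at this

include hv hφ in
theorem isUnit_bCC (a : Fin n × Fin d → D) (ha : ∀ i, v (a i) = 0) (γ : CC A C n d)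
    (hγ : Ideal.Quotient.mk (IK A K C f) (rho A K C n d γ) = 1) : IsUnit (bCC a φ γ : c.Alg) := by
  refine isUnit_of_v v hv c _ fun k => ?_
  rw [v_bCC f b v c φ hφ a ha γ k, hγ, ← Str.coe_one, ← map_one φ, hφ]
  rfl

end point

end K628.Artin
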