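import Groth.Agent.AlgSp.K628.Artin.Slice

/-!
# The finite algebra over the local ring of a point is a clopen piece of the family of slices, II (helper628)
-/

set_option autoImplicit false

universe u

open TensorProduct MvPolynomial

namespace K628.Artin

/-- The localized family of slices. -/
structure GData {A K C : Type u} [CommRing A] [Field K] [CommRing C] [Algebra A K] [Algebra A C] {n d : ℕ}
    (f : Fin n → C) (g : Fin d → C) (G : Type u) [CommRing G] [Algebra (R1 A n d) G]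
    (ι : CC A C n d →+* G) (γ : CC A C n d) : Prop where
  alg : ∀ r, algebraMap (R1 A n d) G r = ι (evF A C f g r)
  flat : Module.Flat (R1 A n d) G
  fp : Algebra.FinitePresentation (R1 A n d) G
  surj : ∀ y : G, ∃ (z : CC A C n d) (m : ℕ), y * ι γ ^ m = ι z
  lift : ∀ (O : Type u) [CommRing O] (β : CC A C n d →+* O), IsUnit (β γ) → ∃ l : G →+* O, ∀ z, l (ι z) = β z
  one : Ideal.Quotient.mk (IK A K C f) (rho A K C n d γ) = 1

/-- `E ⊗ G → O` -/
theorem exists_hom_G {A K C E : Type u} [CommRing A] [Field K] [CommRing C] [Algebra A K] [Algebra A C]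
    [CommRing E] [Algebra A E] {n d : ℕ} {f : Fin n → C} {g : Fin d → C} {G : Type u} [CommRing G]
    [Algebra (R1 A n d) G] {ι : CC A C n d →+* G} {γ : CC A C n d} (hG : GData (K := K) f g G ι γ)
    (a : Fin n × Fin d → E) [Algebra (R1 A n d) E] (hE : algebraMap (R1 A n d) E = eps a)
    (O : Type u) [CommRing O] [Algebra A O] [Algebra E O] [IsScalarTower A E O] (φ : C →ₐ[A] O)
    (h : ∀ i, φ (f i) = ∑ j, algebraMap E O (a (i, j)) * φ (g j)) (hu : IsUnit (bCC a φ γ : O)) :
    ∃ π : E ⊗[R1 A n d] G →ₐ[E] O, ∀ z, π (1 ⊗ₜ ι z) = bCC a φ z := by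
  obtain ⟨l, hl⟩ := hG.lift O (bCC a φ).toRingHom hu
  let _ : Algebra (R1 A n d) O := ((algebraMap E O).comp (algebraMap (R1 A n d) E)).toAlgebra
  have hst : IsScalarTower (R1 A n d) E O := IsScalarTower.of_algebraMap_eq fun _ => rfl
  let l' : G →ₐ[R1 A n d] O :=
    { l with
      commutes' := fun r => by
        change l (algebraMap (R1 A n d) G r) = algebraMap E O (algebraMap (R1 A n d) E r)
        rw [hG.alg, hl, hE]
        exact bCC_evF f g a φ h r }
  refine ⟨Algebra.TensorProduct.lift (Algebra.ofId E O) l' (fun _ _ => Commute.all _ _), fun z => ?_⟩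
  rw [Algebra.TensorProduct.lift_tmul, map_one, one_mul]
  exact hl z

section point

variable {A K C D : Type u} [CommRing A] [Field K] [CommRing C] [CommRing D] [Algebra A K] [Algebra A C]
  [Algebra A D] {n d : ℕ} {f : Fin n → C} {g : Fin d → C} {G : Type u} [CommRing G]
  [Algebra (R1 A n d) G] {ι : CC A C n d →+* G} {γ : CC A C n d} (hG : GData (K := K) f g G ι γ)
  (b : Module.Basis (Fin d) K (K ⊗[A] C ⧸ IK A K C f)) (hb : ∀ j, b j = Ideal.Quotient.mk _ (1 ⊗ₜ g j))

include hG hb in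
/-- The special fibre of the family of slices is spanned by the `g_j`. -/
theorem span_special [Algebra (R1 A n d) K] (hK : ∀ r, algebraMap (R1 A n d) K r = ev0 A K n d (constantCoeff r))
    (y : K ⊗[R1 A n d] G) : ∃ k : Fin d → K, y = ∑ j, k j ⊗ₜ ι (1 ⊗ₜ g j) := by
  let T := K ⊗[R1 A n d] G
  have hKC : ∀ l : Lam A n d, algebraMap (R1 A n d) K (MvPolynomial.C l) = ev0 A K n d l := fun l => by
    rw [hK, constantCoeff_C]
  have hKX : ∀ i, algebraMap (R1 A n d) K (X i) = 0 := fun i => by rw [hK, constantCoeff_X, map_zero]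
  have hsm : ∀ (r : R1 A n d) (y : G), (1 : K) ⊗ₜ[R1 A n d] (algebraMap (R1 A n d) G r * y) =
      (algebraMap (R1 A n d) K r) ⊗ₜ y := by
    intro r y
    rw [← Algebra.smul_def, ← smul_tmul, Algebra.smul_def, mul_one]
  -- `C → T`
  let β : C →+* T := (Algebra.TensorProduct.includeRight (R := R1 A n d) (A := K) (B := G)).toRingHom.comp
    (ι.comp (Algebra.TensorProduct.includeRight (R := A) (A := Lam A n d) (B := C)).toRingHom)
  have hβ : ∀ x, β x = (1 : K) ⊗ₜ[R1 A n d] ι (1 ⊗ₜ x) := fun x => rfl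
  let β' : C →ₐ[A] T :=
    { β with
      commutes' := fun x => by
        change (1 : K) ⊗ₜ[R1 A n d] ι (1 ⊗ₜ algebraMap A C x) = (algebraMap A K x) ⊗ₜ 1
        have h1 : (1 : Lam A n d) ⊗ₜ[A] algebraMap A C x = evF A C f g (MvPolynomial.C (MvPolynomial.C x)) := by
          have h2 : evF A C f g (MvPolynomial.C (MvPolynomial.C x)) = (MvPolynomial.C x : Lam A n d) ⊗ₜ 1 :=
            (evF A C f g).commutes _
          rw [h2]
          have h3 : (MvPolynomial.C x : Lam A n d) = x • 1 := by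
            rw [MvPolynomial.smul_eq_C_mul, mul_one]
          rw [h3, smul_tmul, Algebra.smul_def, mul_one]
        rw [h1, ← hG.alg]
        have h4 := hsm (MvPolynomial.C (MvPolynomial.C x)) 1
        rw [mul_one] at h4
        rw [h4, hKC]
        congr 1
        exact (ev0 A K n d).commutes x }
  let χ : K ⊗[A] C →ₐ[K] T := Algebra.TensorProduct.lift (Algebra.ofId K T) β' (fun _ _ => Commute.all _ _)
  have hχ : ∀ (k : K) (x : C), χ (k ⊗ₜ x) = k ⊗ₜ ι (1 ⊗ₜ x) := by
    intro k x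
    rw [Algebra.TensorProduct.lift_tmul]
    change (k ⊗ₜ[R1 A n d] (1 : G)) * ((1 : K) ⊗ₜ ι (1 ⊗ₜ x)) = _
    rw [Algebra.TensorProduct.tmul_mul_tmul, mul_one, one_mul]
  have h1 : ∀ z : CC A C n d, (1 : K) ⊗ₜ[R1 A n d] ι z = χ (rho A K C n d z) := by
    intro z
    induction z using TensorProduct.induction_on with
    | zero => rw [map_zero, map_zero, map_zero, tmul_zero]
    | add x y hx hy => rw [map_add, map_add, map_add, tmul_add, hx, hy]
    | tmul l x =>
      rw [rho_tmul, hχ]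
      have h2 : l ⊗ₜ[A] x = evF A C f g (MvPolynomial.C l) * (1 ⊗ₜ x) := by
        have h3 : evF A C f g (MvPolynomial.C l) = l ⊗ₜ 1 := (evF A C f g).commutes l
        rw [h3, Algebra.TensorProduct.tmul_mul_tmul, mul_one, one_mul]
      rw [h2, map_mul, ← hG.alg, hsm, hKC]
  have h2 : ∀ i, χ (1 ⊗ₜ f i) = 0 := by
    intro i
    rw [← rho_FF f g i, ← h1]
    have h3 : ι (FF A C f g i) = algebraMap (R1 A n d) G (X i) * 1 := by
      rw [mul_one, hG.alg, evF, aeval_X]
    rw [h3, hsm, hKX, zero_tmul]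
  have h3 : ∀ w ∈ IK A K C f, χ w = 0 := by
    have : IK A K C f ≤ RingHom.ker χ := by
      rw [Ideal.span_le]
      rintro _ ⟨i, rfl⟩
      exact h2 i
    exact this
  have h4 : (1 : K) ⊗ₜ[R1 A n d] ι γ = 1 := by
    rw [h1]
    have h5 : rho A K C n d γ - 1 ∈ IK A K C f := by
      rw [← Ideal.Quotient.eq_zero_iff_mem, map_sub, hG.one, map_one, sub_self]
    have h6 := h3 _ h5
    rw [map_sub, map_one, sub_eq_zero] at h6
    exact h6
  have h5 : ∀ y : T, ∃ w, χ w = y := by
    intro y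
    induction y using TensorProduct.induction_on with
    | zero => exact ⟨0, map_zero _⟩
    | add x y hx hy =>
      obtain ⟨w, rfl⟩ := hx
      obtain ⟨w', rfl⟩ := hy
      exact ⟨w + w', map_add _ _ _⟩
    | tmul k y =>
      obtain ⟨z, m, hz⟩ := hG.surj y
      have h6 : (1 : K) ⊗ₜ[R1 A n d] y = (1 : K) ⊗ₜ ι z := by
        rw [← hz]
        have h7 : (1 : K) ⊗ₜ[R1 A n d] (y * ι γ ^ m) = ((1 : K) ⊗ₜ y) * ((1 : K) ⊗ₜ ι γ) ^ m := by
          rw [Algebra.TensorProduct.tmul_pow, Algebra.TensorProduct.tmul_mul_tmul, one_pow, one_mul]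
        rw [h7, h4, one_pow, mul_one]
      refine ⟨k • rho A K C n d z, ?_⟩
      rw [map_smul, ← h1, ← h6, smul_tmul', smul_eq_mul, mul_one]
  obtain ⟨w, rfl⟩ := h5 y
  refine ⟨fun j => b.repr (Ideal.Quotient.mk _ w) j, ?_⟩
  have h6 : w - ∑ j, b.repr (Ideal.Quotient.mk _ w) j • ((1 : K) ⊗ₜ[A] g j) ∈ IK A K C f := by
    rw [← Ideal.Quotient.eq_zero_iff_mem, map_sub, map_sum, sub_eq_zero]
    conv_lhs => rw [← b.sum_repr (Ideal.Quotient.mk _ w)]
    refine Finset.sum_congr rfl fun j _ => ?_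
    rw [hb]
    rfl
  have h7 := h3 _ h6
  rw [map_sub, sub_eq_zero, map_sum] at h7
  rw [h7]
  refine Finset.sum_congr rfl fun j _ => ?_
  rw [map_smul, hχ, smul_tmul', smul_eq_mul, mul_one]

end point

end K628.Artin
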