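import Groth.Agent.AlgSp.K628.Artin.Slice2
import Mathlib.RingTheory.Finiteness.ModuleFinitePresentation

/-!
# The finite algebra over the local ring of a point is a clopen piece of the family of slices, III (helper628)
-/

set_option autoImplicit false

universe u

open TensorProduct MvPolynomial

namespace K628.Artin

theorem ker_map_coe {K D : Type u} [CommRing D] [Field K] {d : ℕ} (v : D →+* K) (c : Str d D) (I : Ideal D)
    (hI : ∀ x ∈ I, v x = 0) (y : c.Alg) (hy : y ∈ I.map (algebraMap D c.Alg)) (k : Fin d) : v (c.coe y k) = 0 := by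
  have h1 : y ∈ (I • ⊤ : Submodule D c.Alg) := by
    rw [Ideal.smul_top_eq_map]
    exact hy
  refine Submodule.smul_induction_on h1 ?_ ?_
  · intro r hr x _
    rw [Str.coe_smul, Pi.smul_apply, smul_eq_mul, map_mul, hI r hr, zero_mul]
  · intro x y hx hy
    rw [Str.coe_add, Pi.add_apply, map_add, hx, hy, add_zero]

section point

variable {A K C D : Type u} [CommRing A] [Field K] [CommRing C] [CommRing D] [Algebra A K] [Algebra A C]
  [Algebra A D] {n d : ℕ} {f : Fin n → C} {g : Fin d → C} {G : Type u} [CommRing G]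
  [Algebra (R1 A n d) G] {ι : CC A C n d →+* G} {γ : CC A C n d} (hG : GData (K := K) f g G ι γ)
  (b : Module.Basis (Fin d) K (K ⊗[A] C ⧸ IK A K C f)) (hb : ∀ j, b j = Ideal.Quotient.mk _ (1 ⊗ₜ g j))
  (v : D →ₐ[A] K) (hv : Function.Surjective v) [IsLocalRing D] (c : Str d D) (φ : C →ₐ[A] c.Alg)
  (bO : Module.Basis (Fin d) D c.Alg) (hbO : ∀ j, bO j = φ (g j))
  (a : Fin n × Fin d → D) (hva : ∀ i, v (a i) = 0)
  [Algebra (R1 A n d) D] (hD : algebraMap (R1 A n d) D = eps a)
  (π : D ⊗[R1 A n d] G →ₐ[D] c.Alg) (hπ : ∀ z, π (1 ⊗ₜ ι z) = bCC a φ z)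

omit [IsLocalRing D] in
include hbO hπ in
theorem pi_g (j : Fin d) : π (1 ⊗ₜ ι (1 ⊗ₜ g j)) = bO j := by
  rw [hπ, bCC_tmul, map_one, map_one, one_mul, hbO]

omit [IsLocalRing D] in
include hbO hπ in
theorem pi_surjective : Function.Surjective π := by
  intro y
  refine ⟨∑ j, bO.repr y j • (1 ⊗ₜ ι (1 ⊗ₜ g j)), ?_⟩
  rw [map_sum]
  conv_rhs => rw [← bO.sum_repr y]
  refine Finset.sum_congr rfl fun j _ => ?_
  rw [map_smul, pi_g c φ bO hbO a π hπ]

omit [IsLocalRing D] in
include hG hb hv hva hD hbO hπ in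
/-- The kernel of `D ⊗ G → c.Alg` is contained in `𝔫 (D ⊗ G)`. -/
theorem ker_le (x : D ⊗[R1 A n d] G) (hx : π x = 0) :
    x ∈ (RingHom.ker v.toRingHom • ⊤ : Submodule D (D ⊗[R1 A n d] G)) := by
  let _ : Algebra (R1 A n d) K := (v.toRingHom.comp (eps a)).toAlgebra
  have hK : ∀ r, algebraMap (R1 A n d) K r = ev0 A K n d (constantCoeff r) := by
    intro r
    have : v.comp (aeval a : Lam A n d →ₐ[A] D) = ev0 A K n d := by
      ext i
      simp [ev0, hva]
    exact AlgHom.congr_fun this (constantCoeff r)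
  let v' : D →ₐ[R1 A n d] K :=
    { v with
      commutes' := fun r => by
        change v (algebraMap (R1 A n d) D r) = _
        rw [hD]
        rfl }
  have hv' : Function.Surjective v' := hv
  let q : D ⊗[R1 A n d] G →ₐ[R1 A n d] K ⊗[R1 A n d] G := Algebra.TensorProduct.map v' (AlgHom.id _ G)
  obtain ⟨k, hk⟩ := span_special hG b hb hK (q x)
  choose r hr using fun j => hv (k j)
  have h1 : q (x - ∑ j, r j ⊗ₜ ι (1 ⊗ₜ g j)) = 0 := by
    rw [map_sub, hk, map_sum, sub_eq_zero]
    refine Finset.sum_congr rfl fun j _ => ?_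
    rw [Algebra.TensorProduct.map_tmul]
    change _ = v (r j) ⊗ₜ _
    rw [hr]
    rfl
  have h2 : x - ∑ j, r j ⊗ₜ ι (1 ⊗ₜ g j) ∈ (RingHom.ker v.toRingHom).map (algebraMap D (D ⊗[R1 A n d] G)) := by
    have h3 : x - ∑ j, r j ⊗ₜ ι (1 ⊗ₜ g j) ∈ RingHom.ker q := h1
    rw [Algebra.TensorProduct.rTensor_ker v' hv'] at h3
    exact h3
  have h3 : ∀ j, r j ∈ RingHom.ker v.toRingHom := by
    have h4 : π (x - ∑ j, r j ⊗ₜ ι (1 ⊗ₜ g j)) ∈ (RingHom.ker v.toRingHom • ⊤ : Submodule D c.Alg) := by
      rw [Ideal.smul_top_eq_map]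
      have h5 := Ideal.mem_map_of_mem π.toRingHom h2
      rw [Ideal.map_map] at h5
      have h6 : π.toRingHom.comp (algebraMap D (D ⊗[R1 A n d] G)) = algebraMap D c.Alg :=
        RingHom.ext fun x => π.commutes x
      rw [h6] at h5
      exact h5
    rw [map_sub, hx, zero_sub, neg_mem_iff, map_sum] at h4
    have h5 : ∀ j, π (r j ⊗ₜ ι (1 ⊗ₜ g j)) = r j • bO j := by
      intro j
      rw [← pi_g c φ bO hbO a π hπ, ← map_smul, smul_tmul', smul_eq_mul, mul_one]
    simp only [h5] at h4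
    intro j
    have h6 : (RingHom.ker v.toRingHom • ⊤ : Submodule D c.Alg) ≤
        Submodule.comap (bO.coord j) (RingHom.ker v.toRingHom : Submodule D D) := by
      rw [Submodule.smul_le]
      intro r hr m _
      rw [Submodule.mem_comap, map_smul, smul_eq_mul]
      exact Ideal.mul_mem_right _ _ hr
    have h7 := h6 h4
    rw [Submodule.mem_comap, Module.Basis.coord_apply, bO.repr_sum_self] at h7
    exact h7
  rw [← sub_add_cancel x (∑ j, r j ⊗ₜ ι (1 ⊗ₜ g j))]
  refine Submodule.add_mem _ ?_ (Submodule.sum_mem _ fun j _ => ?_)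
  · rw [Ideal.smul_top_eq_map]
    exact h2
  · have h4 : r j ⊗ₜ[R1 A n d] ι (1 ⊗ₜ g j) = r j • ((1 : D) ⊗ₜ ι (1 ⊗ₜ g j)) := by
      rw [smul_tmul', smul_eq_mul, mul_one]
    rw [h4]
    exact Submodule.smul_mem_smul (h3 j) trivial

include hG hb hv hva hD hbO hπ in
theorem exists_idempotent : ∃ e : D ⊗[R1 A n d] G, IsIdempotentElem e ∧ RingHom.ker π = Ideal.span {e} := by
  classical
  let P := D ⊗[R1 A n d] G
  let 𝔫 : Ideal D := RingHom.ker v.toRingHom
  have hsurj := pi_surjective c φ bO hbO a π hπ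
  let s : c.Alg →ₗ[D] P := bO.constr D fun j => 1 ⊗ₜ ι (1 ⊗ₜ g j)
  have hs : ∀ y, π (s y) = y := by
    intro y
    have : π.toLinearMap.comp s = LinearMap.id := by
      refine bO.ext fun j => ?_
      rw [LinearMap.comp_apply, Module.Basis.constr_basis, LinearMap.id_apply]
      exact pi_g c φ bO hbO a π hπ j
    exact LinearMap.congr_fun this y
  let L : P →ₗ[D] P := LinearMap.id - s.comp π.toLinearMap
  have hfp := hG.fp
  have hfg : (RingHom.ker π).FG := by
    have h1 : Algebra.FinitePresentation D P := inferInstance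
    have h3 : Module.FinitePresentation D c.Alg := Module.finitePresentation_of_projective D c.Alg
    have h2 : Algebra.FinitePresentation D c.Alg := Algebra.FinitePresentation.of_finitePresentation D c.Alg
    exact Algebra.FinitePresentation.ker_fG_of_surjective π hsurj
  have hle : RingHom.ker π ≤ (𝔫.map (algebraMap D P)) • RingHom.ker π := by
    intro x hx
    have h1 : L x ∈ Submodule.map L (𝔫 • ⊤ : Submodule D P) :=
      Submodule.mem_map_of_mem (ker_le hG b hb v hv c φ bO hbO a hva hD π hπ x hx)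
    have h2 : L x = x := by
      change x - s (π x) = x
      rw [show π x = 0 from hx, map_zero, sub_zero]
    rw [h2, Submodule.map_smul''] at h1
    have h3 : (𝔫 • Submodule.map L ⊤ : Submodule D P) ≤
        Submodule.restrictScalars D ((𝔫.map (algebraMap D P)) • RingHom.ker π : Ideal P) := by
      rw [Submodule.smul_le]
      rintro r hr _ ⟨y, -, rfl⟩
      rw [Submodule.restrictScalars_mem, Algebra.smul_def]
      refine Submodule.smul_mem_smul (Ideal.mem_map_of_mem _ hr) ?_
      change π (y - s (π y)) = 0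
      rw [map_sub, hs, sub_self]
    exact h3 h1
  obtain ⟨r, hr1, hr2⟩ := Submodule.exists_sub_one_mem_and_smul_eq_zero_of_fg_of_le_smul _ _ hfg hle
  have hunit : IsUnit (π r) := by
    refine isUnit_of_v v hv c _ fun k => ?_
    have h1 : π (r - 1) ∈ 𝔫.map (algebraMap D c.Alg) := by
      have h5 := Ideal.mem_map_of_mem π.toRingHom hr1
      rw [Ideal.map_map] at h5
      have h6 : π.toRingHom.comp (algebraMap D (D ⊗[R1 A n d] G)) = algebraMap D c.Alg :=
        RingHom.ext fun x => π.commutes x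
      rw [h6] at h5
      exact h5
    have h2 := ker_map_coe v.toRingHom c 𝔫 (fun x hx => hx) _ h1 k
    rw [map_sub, map_one] at h2
    have h3 : v (c.coe (π r) k - c.coe 1 k) = 0 := h2
    rwa [map_sub, sub_eq_zero, Str.coe_one] at h3
  obtain ⟨w, hw⟩ := hunit.exists_left_inv
  obtain ⟨y, rfl⟩ := hsurj w
  have he : 1 - y * r ∈ RingHom.ker π := by
    rw [RingHom.mem_ker, map_sub, map_one, map_mul, hw, sub_self]
  have hmul : ∀ x ∈ RingHom.ker π, x * (1 - y * r) = x := by
    intro x hx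
    have h1 : r * x = 0 := hr2 x hx
    calc x * (1 - y * r) = x - y * (r * x) := by ring
      _ = x := by rw [h1, mul_zero, sub_zero]
  refine ⟨1 - y * r, hmul _ he, le_antisymm ?_ ?_⟩
  · intro x hx
    exact Ideal.mem_span_singleton'.2 ⟨x, hmul x hx⟩
  · rw [Ideal.span_singleton_le_iff_mem]
    exact he

end point

end K628.Artin
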