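import Groth.Agent.AlgSp.K628.Artin.Slice3
import Mathlib.RingTheory.Smooth.Basic

/-!
# Formal smoothness of the local ring of a point (helper628)
-/

set_option autoImplicit false

universe u

open TensorProduct MvPolynomial

namespace K628.Artin

/-- `C → E ⊗ G` -/
theorem exists_incC {A K C E : Type u} [CommRing A] [Field K] [CommRing C] [Algebra A K] [Algebra A C]
    [CommRing E] [Algebra A E] {n d : ℕ} {f : Fin n → C} {g : Fin d → C} {G : Type u} [CommRing G]
    [Algebra (R1 A n d) G] {ι : CC A C n d →+* G} {γ : CC A C n d} (hG : GData (K := K) f g G ι γ)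
    (a : Fin n × Fin d → E) [Algebra (R1 A n d) E] (hE : algebraMap (R1 A n d) E = eps a) :
    ∃ β : C →ₐ[A] E ⊗[R1 A n d] G, ∀ x, β x = 1 ⊗ₜ ι (1 ⊗ₜ x) := by
  let T := E ⊗[R1 A n d] G
  let β : C →+* T := (Algebra.TensorProduct.includeRight (R := R1 A n d) (A := E) (B := G)).toRingHom.comp
    (ι.comp (Algebra.TensorProduct.includeRight (R := A) (A := Lam A n d) (B := C)).toRingHom)
  exact ⟨{ β with
      commutes' := fun x => by
        change (1 : E) ⊗ₜ[R1 A n d] ι (1 ⊗ₜ algebraMap A C x) = (algebraMap A E x) ⊗ₜ 1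
        have h1 : (1 : Lam A n d) ⊗ₜ[A] algebraMap A C x = evF A C f g (MvPolynomial.C (MvPolynomial.C x)) := by
          have h2 : evF A C f g (MvPolynomial.C (MvPolynomial.C x)) = (MvPolynomial.C x : Lam A n d) ⊗ₜ 1 :=
            (evF A C f g).commutes _
          rw [h2]
          have h3 : (MvPolynomial.C x : Lam A n d) = x • 1 := by
            rw [MvPolynomial.smul_eq_C_mul, mul_one]
          rw [h3, smul_tmul, Algebra.smul_def, mul_one]
        rw [h1, ← hG.alg]
        have h4 : (1 : E) ⊗ₜ[R1 A n d] (algebraMap (R1 A n d) G (MvPolynomial.C (MvPolynomial.C x))) =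
            (algebraMap (R1 A n d) E (MvPolynomial.C (MvPolynomial.C x))) ⊗ₜ 1 := by
          rw [Algebra.algebraMap_eq_smul_one (A := G), ← smul_tmul, Algebra.smul_def, mul_one]
        rw [h4, hE, eps_C]
        congr 1
        exact (aeval a : Lam A n d →ₐ[A] E).commutes x }, fun _ => rfl⟩

/-- An idempotent lifts along a square zero thickening. -/
theorem exists_lift_idem {S S' : Type u} [CommRing S] [CommRing S'] (q : S →+* S') (hq : Function.Surjective q)
    (h : ∀ x, q x = 0 → IsNilpotent x) (e : S') (he : IsIdempotentElem e) : ∃ ε : S, IsIdempotentElem ε ∧ q ε = e :=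
  exists_isIdempotentElem_eq_of_ker_isNilpotent q h e (hq e) he

section lift

variable {A D C : Type u} [CommRing A] [CommRing D] [CommRing C] [Algebra A D] {d : ℕ} {R G : Type u} [CommRing R] [CommRing G]
  [Algebra R G] [Module.Flat R G] [Algebra R D] (c : Str d D) (π : D ⊗[R] G →ₐ[D] c.Alg) (hπ : Function.Surjective π)
  (e : D ⊗[R] G) (he : IsIdempotentElem e) (hke : RingHom.ker π = Ideal.span {e})
  {E : Type u} [CommRing E] [Algebra R E] (J : Ideal E) (hJ : J ^ 2 = ⊥)
  (ψ : D →ₐ[R] E ⧸ J)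

omit [Module.Flat R G] in
/-- `(E/J) ⊗ G → (c.map ψ).Alg` -/
theorem exists_pi'' : ∃ π' : (E ⧸ J) ⊗[R] G →ₐ[E ⧸ J] (c.map ψ.toRingHom).Alg,
    ∀ p : D ⊗[R] G, π' (Algebra.TensorProduct.map ψ (AlgHom.id R G) p) = c.mapHom ψ.toRingHom (π p) := by
  let O' := (c.map ψ.toRingHom).Alg
  let l : G →ₐ[R] O' :=
    { ((c.mapHom ψ.toRingHom).comp (π.toRingHom.comp
        (Algebra.TensorProduct.includeRight (R := R) (A := D) (B := G)).toRingHom)) with
      commutes' := fun r => by
        change c.mapHom ψ.toRingHom (π (1 ⊗ₜ algebraMap R G r)) = algebraMap R O' r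
        rw [Algebra.algebraMap_eq_smul_one (A := G), ← smul_tmul, Algebra.smul_def, mul_one]
        have h1 : π (algebraMap R D r ⊗ₜ 1) = algebraMap D c.Alg (algebraMap R D r) := π.commutes _
        rw [h1, Str.mapHom_algebraMap]
        change algebraMap (E ⧸ J) O' (ψ (algebraMap R D r)) = _
        rw [ψ.commutes, ← IsScalarTower.algebraMap_apply] }
  refine ⟨Algebra.TensorProduct.lift (Algebra.ofId (E ⧸ J) O') l (fun _ _ => Commute.all _ _), fun p => ?_⟩
  induction p using TensorProduct.induction_on with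
  | zero => simp only [map_zero]
  | add x y hx hy => simp only [map_add, hx, hy]
  | tmul x y =>
    rw [Algebra.TensorProduct.map_tmul, Algebra.TensorProduct.lift_tmul]
    change algebraMap (E ⧸ J) O' (ψ x) * c.mapHom ψ.toRingHom (π (1 ⊗ₜ y)) = _
    have h1 : x ⊗ₜ[R] y = algebraMap D _ x * ((1 : D) ⊗ₜ[R] y) := by
      rw [← Algebra.smul_def, smul_tmul', smul_eq_mul, mul_one]
    rw [h1, map_mul, π.commutes, map_mul, Str.mapHom_algebraMap]
    rfl

include hπ he hke hJ in
theorem exists_flat_lift : ∃ (ε : E ⊗[R] G) (τ : (E ⊗[R] G ⧸ Ideal.span {ε}) →ₐ[E] (c.map ψ.toRingHom).Alg),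
    IsIdempotentElem ε ∧ Function.Surjective τ ∧ LinearMap.ker τ.toLinearMap = J • ⊤ ∧
    ∀ y : G, τ (Ideal.Quotient.mk _ (1 ⊗ₜ y)) = c.mapHom ψ.toRingHom (π (1 ⊗ₜ y)) := by
  classical
  obtain ⟨π', hπ'⟩ := exists_pi'' c π J ψ
  let O' := (c.map ψ.toRingHom).Alg
  let mkR : E →ₐ[R] E ⧸ J := Ideal.Quotient.mkₐ R J
  have hmkR : Function.Surjective mkR := Ideal.Quotient.mk_surjective
  let q' : E ⊗[R] G →ₐ[R] (E ⧸ J) ⊗[R] G := Algebra.TensorProduct.map mkR (AlgHom.id R G)
  have hq's : Function.Surjective q' := TensorProduct.map_surjective (g := mkR.toLinearMap)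
    (g' := (LinearMap.id : G →ₗ[R] G)) hmkR Function.surjective_id
  have hq'k : RingHom.ker q' = J.map (algebraMap E (E ⊗[R] G)) := by
    have h1 : RingHom.ker q' = _ := Algebra.TensorProduct.rTensor_ker mkR hmkR
    have h2 : RingHom.ker mkR = J := Ideal.mk_ker
    rw [h2] at h1
    exact h1
  have hnil : ∀ x, q' x = 0 → IsNilpotent x := by
    intro x hx
    have h1 : x ∈ J.map (algebraMap E (E ⊗[R] G)) := hq'k ▸ hx
    refine ⟨2, ?_⟩
    have h2 : x ^ 2 ∈ (J.map (algebraMap E (E ⊗[R] G))) ^ 2 := Ideal.pow_mem_pow h1 2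
    rw [← Ideal.map_pow, hJ, Ideal.map_bot] at h2
    exact h2
  let q : D ⊗[R] G →ₐ[R] (E ⧸ J) ⊗[R] G := Algebra.TensorProduct.map ψ (AlgHom.id R G)
  obtain ⟨ε, hε, hqε⟩ := exists_lift_idem q'.toRingHom hq's hnil (q e) (he.map q)
  have hπe : π e = 0 := by
    have : e ∈ RingHom.ker π := hke ▸ Ideal.mem_span_singleton_self e
    exact this
  let τ₀ : E ⊗[R] G →ₐ[E] O' :=
    { (π'.toRingHom.comp q'.toRingHom) with
      commutes' := fun x => by
        change π' (q' (x ⊗ₜ 1)) = _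
        rw [Algebra.TensorProduct.map_tmul, map_one]
        exact π'.commutes (Ideal.Quotient.mk J x) }
  have hτ₀ : ∀ z, τ₀ z = π' (q' z) := fun z => rfl
  have hτε : ∀ z ∈ Ideal.span {ε}, τ₀ z = 0 := by
    intro z hz
    obtain ⟨w, rfl⟩ := Ideal.mem_span_singleton'.1 hz
    have : τ₀ ε = 0 := by
      rw [hτ₀]
      have h1 : q' ε = q e := hqε
      rw [h1, hπ', hπe, map_zero]
    rw [map_mul, this, mul_zero]
  -- section
  choose p hp using fun k => hπ (c.bas k)
  have hrep : ∀ y : G, ∃ w : D ⊗[R] G, (1 : D) ⊗ₜ y = ∑ k, c.coe (π (1 ⊗ₜ y)) k • p k + w * e := by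
    intro y
    have h1 : (1 : D) ⊗ₜ[R] y - ∑ k, c.coe (π (1 ⊗ₜ y)) k • p k ∈ RingHom.ker π := by
      rw [RingHom.mem_ker, map_sub, map_sum]
      simp only [map_smul, hp]
      rw [← Str.eq_sum_bas, sub_self]
    rw [hke] at h1
    obtain ⟨w, hw⟩ := Ideal.mem_span_singleton'.1 h1
    exact ⟨w, by rw [hw]; ring⟩
  have hqsmul : ∀ (r : D) (z : D ⊗[R] G), q (r • z) = ψ r • q z := by
    intro r z
    rw [Algebra.smul_def r z, map_mul]
    exact (Algebra.smul_def (ψ r) (q z)).symm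
  have key : ∀ z : E ⊗[R] G, ∃ w, q' z = ∑ k, (c.map ψ.toRingHom).coe (τ₀ z) k • q (p k) + w * q e := by
    intro z
    induction z using TensorProduct.induction_on with
    | zero =>
      refine ⟨0, ?_⟩
      simp only [map_zero, Str.coe_zero, Pi.zero_apply, zero_smul, Finset.sum_const_zero, zero_mul, add_zero]
    | add x y hx hy =>
      obtain ⟨w, hw⟩ := hx
      obtain ⟨w', hw'⟩ := hy
      refine ⟨w + w', ?_⟩
      have h3 : ∀ k, (c.map ψ.toRingHom).coe (τ₀ (x + y)) k =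
          (c.map ψ.toRingHom).coe (τ₀ x) k + (c.map ψ.toRingHom).coe (τ₀ y) k := fun k => by
        rw [map_add]
        rfl
      simp only [h3, add_smul, Finset.sum_add_distrib, add_mul]
      rw [map_add, hw, hw']
      ring
    | tmul x y =>
      obtain ⟨w, hw⟩ := hrep y
      have h1 : q' (x ⊗ₜ y) = mkR x • q (1 ⊗ₜ y) := by
        rw [Algebra.TensorProduct.map_tmul, Algebra.TensorProduct.map_tmul, map_one, smul_tmul', smul_eq_mul, mul_one]
      have h2 : τ₀ (x ⊗ₜ y) = mkR x • c.mapHom ψ.toRingHom (π (1 ⊗ₜ y)) := by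
        rw [hτ₀, h1, map_smul, hπ']
      have h3 : q (1 ⊗ₜ y) = ∑ k, ψ (c.coe (π (1 ⊗ₜ y)) k) • q (p k) + q w * q e := by
        conv_lhs => rw [hw]
        rw [map_add, map_sum, map_mul]
        congr 1
        exact Finset.sum_congr rfl fun k _ => hqsmul _ _
      refine ⟨mkR x • q w, ?_⟩
      rw [h2, h1, h3, smul_add, Finset.smul_sum, smul_mul_assoc]
      congr 1
      refine Finset.sum_congr rfl fun k _ => ?_
      rw [smul_smul, Str.coe_smul, Pi.smul_apply, smul_eq_mul, Str.coe_mapHom]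
      rfl
  let τ : (E ⊗[R] G ⧸ Ideal.span {ε}) →ₐ[E] O' := Ideal.Quotient.liftₐ _ τ₀ hτε
  have hτmk : ∀ z, τ (Ideal.Quotient.mk _ z) = τ₀ z := fun z => rfl
  refine ⟨ε, τ, hε, ?_, ?_, ?_⟩
  · intro y
    obtain ⟨p', hp'⟩ : ∃ z, π' z = y := by
      refine ⟨∑ k, (c.map ψ.toRingHom).coe y k • q (p k), ?_⟩
      rw [map_sum]
      conv_rhs => rw [Str.eq_sum_bas _ y]
      refine Finset.sum_congr rfl fun k _ => ?_
      rw [map_smul, hπ', hp, Str.mapHom_bas]
    obtain ⟨z, rfl⟩ := hq's p'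
    exact ⟨Ideal.Quotient.mk _ z, hp'⟩
  · apply le_antisymm
    · intro z hz
      obtain ⟨z, rfl⟩ := Ideal.Quotient.mk_surjective z
      have hz' : τ₀ z = 0 := hz
      obtain ⟨w, hw⟩ := key z
      rw [hz'] at hw
      simp only [Str.coe_zero, Pi.zero_apply, zero_smul, Finset.sum_const_zero, zero_add] at hw
      obtain ⟨w, rfl⟩ := hq's w
      have h1 : z - w * ε ∈ J.map (algebraMap E (E ⊗[R] G)) := by
        rw [← hq'k, RingHom.mem_ker, map_sub, map_mul, hw]
        have h1 : q' ε = q e := hqε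
        rw [h1, sub_self]
      have h2 : (Ideal.Quotient.mk (Ideal.span {ε}) z) = Ideal.Quotient.mk (Ideal.span {ε}) (z - w * ε) := by
        rw [Ideal.Quotient.eq]
        have : z - (z - w * ε) = w * ε := by ring
        rw [this]
        exact Ideal.mul_mem_left _ _ (Ideal.mem_span_singleton_self ε)
      rw [h2, Ideal.smul_top_eq_map]
      have h3 := Ideal.mem_map_of_mem (Ideal.Quotient.mk (Ideal.span {ε})) h1
      rw [Ideal.map_map] at h3
      exact h3
    · rw [Submodule.smul_le]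
      intro r hr m _
      rw [LinearMap.mem_ker, map_smul]
      have h1 : r • τ m = (Ideal.Quotient.mk J r) • τ m := (algebraMap_smul (E ⧸ J) r (τ m)).symm
      change r • τ m = 0
      rw [h1, Ideal.Quotient.eq_zero_iff_mem.2 hr, zero_smul]
  · intro y
    rw [hτmk, hτ₀, ← hπ']
    congr 1
    rw [Algebra.TensorProduct.map_tmul, Algebra.TensorProduct.map_tmul, map_one, map_one]

end lift

section smooth

variable {A K C D : Type u} [CommRing A] [Field K] [CommRing C] [CommRing D] [Algebra A K] [Algebra A C]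
  [Algebra A D] {n d : ℕ} {f : Fin n → C} {g : Fin d → C} {G : Type u} [CommRing G]
  [Algebra (R1 A n d) G] {ι : CC A C n d →+* G} {γ : CC A C n d} (hG : GData (K := K) f g G ι γ)
  (b : Module.Basis (Fin d) K (K ⊗[A] C ⧸ IK A K C f)) (hb : ∀ j, b j = Ideal.Quotient.mk _ (1 ⊗ₜ g j))
  (v : D →ₐ[A] K) (hv : Function.Surjective v) [IsLocalRing D] (c : Str d D) (φ : C →ₐ[A] c.Alg)
  (hφ : ∀ x k, v (c.coe (φ x) k) = b.repr (Ideal.Quotient.mk _ (1 ⊗ₜ x)) k)

include hG hb hv hφ in
/-- Lifting property of a point in the family of slices. -/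
theorem exists_lift_point (E : Type u) [CommRing E] [Algebra A E] (J : Ideal E) (hJ : J ^ 2 = ⊥)
    (ψ : D →ₐ[A] E ⧸ J) : ∃ (cE : Str d E) (φE : C →ₐ[A] cE.Alg),
      cE.map (Ideal.Quotient.mk J) = c.map ψ.toRingHom ∧
      ∀ x k, Ideal.Quotient.mk J (cE.coe (φE x) k) = ψ (c.coe (φ x) k) := by
  classical
  obtain ⟨bO, hbO⟩ := exists_basis_g f g b hb v hv c φ hφ
  let a : Fin n × Fin d → D := fun p => bO.repr (φ (f p.1)) p.2
  have hva : ∀ i, v (a i) = 0 := fun i => v_coord f g b hb v c φ hφ bO hbO i.1 i.2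
  have haf : ∀ i, φ (f i) = ∑ j, algebraMap D c.Alg (a (i, j)) * φ (g j) := by
    intro i
    conv_lhs => rw [← bO.sum_repr (φ (f i))]
    refine Finset.sum_congr rfl fun j _ => ?_
    rw [hbO, Algebra.smul_def]
  choose a' ha' using fun p => Ideal.Quotient.mk_surjective (I := J) (ψ (a p))
  let _ : Algebra (R1 A n d) D := (eps a).toAlgebra
  let _ : Algebra (R1 A n d) E := (eps a').toAlgebra
  have hu := isUnit_bCC f b v hv c φ hφ a hva γ hG.one
  obtain ⟨π, hπ⟩ := exists_hom_G hG a rfl c.Alg φ haf hu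
  obtain ⟨e, he, hke⟩ := exists_idempotent hG b hb v hv c φ bO hbO a hva rfl π hπ
  have hψ : ∀ r, ψ (algebraMap (R1 A n d) D r) = algebraMap (R1 A n d) (E ⧸ J) r := by
    intro r
    change ψ (eps a r) = Ideal.Quotient.mk J (eps a' r)
    have h1 : ψ.comp (aeval a : Lam A n d →ₐ[A] D) = (Ideal.Quotient.mkₐ A J).comp (aeval a' : Lam A n d →ₐ[A] E) := by
      ext i
      simp [ha']
    exact AlgHom.congr_fun h1 (constantCoeff r)
  let ψ' : D →ₐ[R1 A n d] E ⧸ J := { ψ with commutes' := hψ }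
  have hflat := hG.flat
  obtain ⟨ε, τ, hε, hτs, hτk, hτ⟩ := exists_flat_lift c π (pi_surjective c φ bO hbO a π hπ) e he hke J hJ ψ'
  let Q := (E ⊗[R1 A n d] G) ⧸ Ideal.span {ε}
  have hQ : Module.Flat E Q := flat_quotient_span_idempotent hε
  choose y hy using fun k => hτs ((c.map ψ'.toRingHom).bas k)
  obtain ⟨b', hb'⟩ := exists_basis_of_flat J hJ τ.toLinearMap hτk (c.map ψ'.toRingHom).bas y hy
  have hcoe : ∀ (z : Q) k, (c.map ψ'.toRingHom).coe (τ z) k = Ideal.Quotient.mk J (b'.repr z k) := by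
    intro z k
    have h1 : τ z = ∑ j, Ideal.Quotient.mk J (b'.repr z j) • (c.map ψ'.toRingHom).bas j := by
      conv_lhs => rw [← b'.sum_repr z]
      rw [map_sum]
      refine Finset.sum_congr rfl fun j _ => ?_
      rw [map_smul, hb']
      have h2 : τ (y j) = (c.map ψ'.toRingHom).bas j := hy j
      rw [h2]
      exact (algebraMap_smul (E ⧸ J) (b'.repr z j) _).symm
    rw [h1, ← Str.repr_bas, Module.Basis.repr_sum_self]
  obtain ⟨β, hβ⟩ := exists_incC (E := E) hG a' rfl
  let Qm : E ⊗[R1 A n d] G →ₐ[E] Q := Ideal.Quotient.mkₐ E (Ideal.span {ε})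
  refine ⟨Str.ofBasis b', ((Str.ofBasisEquiv b').toAlgHom.comp Qm).restrictScalars A |>.comp β, ?_, ?_⟩
  · have key : ∀ i j k, Ideal.Quotient.mk J (b'.repr (b' i * b' j) k) = (c.map ψ'.toRingHom).m i j k := by
      intro i j k
      rw [← hcoe, map_mul, hb', hb']
      have h2 : ∀ j, τ (y j) = (c.map ψ'.toRingHom).bas j := hy
      rw [h2, h2, Str.mul_def, Str.mulL_bas]
      rfl
    have key1 : ∀ k, Ideal.Quotient.mk J (b'.repr 1 k) = (c.map ψ'.toRingHom).o k := by
      intro k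
      rw [← hcoe, map_one]
      rfl
    apply Str.ext
    · funext i j k
      exact key i j k
    · funext k
      exact key1 k
  · intro x k
    have h1 : (Str.ofBasis b').coe (((Str.ofBasisEquiv b').toAlgHom.comp Qm).restrictScalars A |>.comp β x) k =
        b'.repr (Ideal.Quotient.mk _ (β x)) k := Str.coe_ofBasisEquiv b' _ k
    rw [h1, ← hcoe, hβ, hτ, hπ, bCC_tmul, map_one, map_one, one_mul]
    rfl

include hG hb hv hφ in
/-- Formal smoothness of the local ring of a point. -/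
theorem formallySmooth_point
    (LU : ∀ (E : Type u) [CommRing E] [Algebra A E] (J : Ideal E) (_ : J ^ 2 = ⊥) (ψ : D →ₐ[A] E ⧸ J)
      (cE : Str d E) (φE : C →ₐ[A] cE.Alg), cE.map (Ideal.Quotient.mk J) = c.map ψ.toRingHom →
      (∀ x k, Ideal.Quotient.mk J (cE.coe (φE x) k) = ψ (c.coe (φ x) k)) →
      ∃ ψ' : D →ₐ[A] E, (Ideal.Quotient.mkₐ A J).comp ψ' = ψ) : Algebra.FormallySmooth A D := by
  refine Algebra.FormallySmooth.of_comp_surjective fun E _ _ J hJ ψ => ?_
  obtain ⟨cE, φE, h1, h2⟩ := exists_lift_point hG b hb v hv c φ hφ E J hJ ψ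
  exact LU E J hJ ψ cE φE h1 h2

end smooth

end K628.Artin
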