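import Groth.Agent.AlgSp.K628.Artin.SmPt
import Groth.Agent.AlgSt.K734.Cover
import Groth.Agent.AlgSt.K743.Comp
import Groth.Agent.AlgSt.K741.Conv

/-!
# The smooth locus of a chart (helper628)

`exists_smooth_open` : `x : U ⟶ 𝒳` representable, flat, lfp, surjective and `y : V ⟶ 𝒳` representable, lfp; there
is an open `V0 ⊆ V` with `V0 ⟶ 𝒳` representable and smooth, containing the image of every point `w` of every étale
chart `W` of `V ×_𝒳 U` at which `W ⟶ U` is smooth.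
-/

set_option autoImplicit false
set_option backward.isDefEq.respectTransparency false
set_option backward.isDefEq.respectTransparency.types false

universe w v u

open CategoryTheory CategoryTheory.Limits Opposite AlgebraicGeometry K734.Fib

namespace K628.SmLoc

variable {S : Scheme.{u}} {𝒳 : BasedCategory.{v, w} (Over S)}

local notation "h" => AlgSp.yon S

theorem IsFP.prop_u {P : MorphismProperty (AlgSp.Sp S)} [P.RespectsIso] {U : Over S} {Y : AlgSp.Sp S}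
    {x : AlgSt.ofSp ((AlgSp.yon S).obj U) ⥤ᵇ 𝒳} {y : AlgSt.ofSp Y ⥤ᵇ 𝒳} (hy : AlgSt.RepByAlgSpWith P y)
    {F : AlgSp.Sp S} {f : Tr x y F} (hf : IsFP f) : AlgSp.IsAlgSpace F ∧ P f.u := by
  obtain ⟨F', π, hA, hR, hP⟩ := (K734.Rep.repByAlgSpWith_iff P y).1 hy U x
  obtain ⟨f', hf'u, hf'⟩ := exists_isFP hR
  obtain ⟨e, he⟩ := hf.unique hf'
  refine ⟨hA.of_iso e.symm, ?_⟩
  have h1 : f.u = e.hom ≫ f'.u := (congrArg Tr.u he).symm
  rw [h1, hf'u]
  exact (MorphismProperty.cancel_left_of_respectsIso P e.hom π).2 hP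

theorem IsFP.prop_v {P : MorphismProperty (AlgSp.Sp S)} [P.RespectsIso] {X : AlgSp.Sp S} {V : Over S}
    {x : AlgSt.ofSp X ⥤ᵇ 𝒳} {y : AlgSt.ofSp ((AlgSp.yon S).obj V) ⥤ᵇ 𝒳} (hx : AlgSt.RepByAlgSpWith P x)
    {F : AlgSp.Sp S} {f : Tr x y F} (hf : IsFP f) : AlgSp.IsAlgSpace F ∧ P f.v :=
  hf.inv.prop_u hx

theorem isRep_of_isFP {U : Over S} {Y : AlgSp.Sp S}
    {x : AlgSt.ofSp ((AlgSp.yon S).obj U) ⥤ᵇ 𝒳} {y : AlgSt.ofSp Y ⥤ᵇ 𝒳} (hy : AlgSt.RepByAlgSp1 y)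
    {F : AlgSp.Sp S} {f : Tr x y F} (hf : IsFP f) : K734.Rep.IsRep y x f.u := by
  obtain ⟨F', π, hA, hR⟩ := (K734.Rep.repByAlgSp1_iff y).1 hy U x
  obtain ⟨f', hf'u, hf'⟩ := exists_isFP hR
  obtain ⟨e, he⟩ := hf.unique hf'
  have h1 : f.u = e.hom ≫ f'.u := (congrArg Tr.u he).symm
  rw [h1, hf'u]
  exact hR.of_iso e

section

variable {U V : Over S} {x : AlgSt.ofSp ((AlgSp.yon S).obj U) ⥤ᵇ 𝒳} {y : AlgSt.ofSp ((AlgSp.yon S).obj V) ⥤ᵇ 𝒳}

/-- the property of a chart of a map to a representable sheaf -/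
theorem prop_of_chart {P : MorphismProperty Scheme.{u}} {F : AlgSp.Sp S} {T W : Over S} {p : F ⟶ (h).obj T}
    (hp : AlgSp.LocP P p) {w : (h).obj W ⟶ F} (hw : AlgSp.RepWith @Etale w) {b : W ⟶ T}
    (hb : (h).map b = w ≫ p) : P b.left :=
  hp w (𝟙 _) b hw (AlgSp.repWith_id _ T) (by rw [Category.comp_id, hb])

theorem mem_smoothLocus' (hx : AlgSt.RepByAlgSpWith (AlgSp.LocP @Flat) x) {F : AlgSp.Sp S} {f : Tr x y F}
    (hf : IsFP f) (C₁ C₂ : Ch f) [LocallyOfFinitePresentation C₁.b.left]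
    [LocallyOfFinitePresentation C₂.b.left] (ω₁ : C₁.W.left) (ω₂ : C₂.W.left)
    (hω : C₁.a.left ω₁ = C₂.a.left ω₂) (h1 : ω₁ ∈ C₁.b.left.smoothLocus) : ω₂ ∈ C₂.b.left.smoothLocus := by
  obtain ⟨R, π, hA, hR, hP⟩ := (K734.Rep.repByAlgSpWith_iff _ x).1 hx U x
  obtain ⟨r, rfl, hr⟩ := exists_isFP hR
  have := K735.Top.locP_respectsIso (S := S) @Flat
  have hrv := (hr.prop_v hx).2
  obtain ⟨R', ρ, hρ, hρ'⟩ := hA.atlas
  obtain ⟨s, hs⟩ := (h).map_surjective (ρ ≫ r.u)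
  obtain ⟨t, ht⟩ := (h).map_surjective (ρ ≫ r.v)
  let D : SmData x y := ⟨F, f, hf, R, r, hr, R', ρ, hρ, hρ', s, hs, t, ht, prop_of_chart hP hρ hs,
    prop_of_chart hrv hρ ht⟩
  exact mem_smoothLocus D C₁ C₂ ω₁ ω₂ hω h1

/-- the main theorem for functors from sheaf categories -/
theorem exists_smooth_open_aux (hx₁ : AlgSt.RepByAlgSpWith (AlgSp.LocP @Flat) x)
    (hx₂ : AlgSt.RepByAlgSpWith (AlgSp.LocP @LocallyOfFinitePresentation) x)
    (hx₃ : AlgSt.RepByAlgSpWith AlgSp.IsSurjectiveMor x)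
    (hy : AlgSt.RepByAlgSpWith (AlgSp.LocP @LocallyOfFinitePresentation) y)
    (hy' : ∀ {V₀ : Over S} (ι : V₀ ⟶ V), IsOpenImmersion ι.left →
      AlgSt.RepByAlgSp1 (BasedFunctor.comp (AlgSt.ofSpMap ((AlgSp.yon S).map ι)) y)) :
    ∃ V0 : V.left.Opens,
      AlgSt.RepByAlgSpWith (AlgSp.LocP @Smooth) (BasedFunctor.comp (AlgSt.ofSpMap ((AlgSp.yon S).map
        (Over.homMk V0.ι : Over.mk (V0.ι ≫ V.hom) ⟶ V))) y) ∧
      ∀ {F : AlgSp.Sp S} {f : Tr x y F} (_ : IsFP f) (C : Ch f) [LocallyOfFinitePresentation C.b.left]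
        (ω : C.W.left), ω ∈ C.b.left.smoothLocus → C.a.left ω ∈ V0 := by
  have i₁ := K735.Top.locP_respectsIso (S := S) @Flat
  have i₂ := K735.Top.locP_respectsIso (S := S) @LocallyOfFinitePresentation
  obtain ⟨F, π, hA, hR, hP⟩ := (K734.Rep.repByAlgSpWith_iff _ y).1 hy U x
  obtain ⟨f, rfl, hf⟩ := exists_isFP hR
  obtain ⟨W, w, hw, hw'⟩ := hA.atlas
  obtain ⟨b, hb⟩ := (h).map_surjective (w ≫ f.u)
  obtain ⟨a, ha⟩ := (h).map_surjective (w ≫ f.v)
  have hbl : LocallyOfFinitePresentation b.left := prop_of_chart hP hw hb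
  have haf : Flat a.left := prop_of_chart (hf.prop_v hx₁).2 hw ha
  have hal : LocallyOfFinitePresentation a.left := prop_of_chart (hf.prop_v hx₂).2 hw ha
  let C₀ : Ch f := ⟨W, w, hw, b, hb, a, ha, hbl⟩
  let V0 : V.left.Opens := ⟨a.left '' (b.left.smoothLocus : Set W.left), a.left.isOpenMap _ b.left.smoothLocus.2⟩
  refine ⟨V0, ?_, ?_⟩
  · let V₀ : Over S := Over.mk (V0.ι ≫ V.hom)
    let ι : V₀ ⟶ V := Over.homMk V0.ι
    have hι : IsOpenImmersion ι.left := inferInstanceAs (IsOpenImmersion V0.ι)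
    obtain ⟨f₀, hf₀u, hf₀v, hf₀⟩ := hf.exists_bc (IsPullback.of_hasPullback f.v ((h).map ι))
    -- the chart of `F₀`
    have sq := IsPullback.of_hasPullback a ι
    have sqh := sq.map (h)
    let w₀ : (h).obj (pullback a ι) ⟶ pullback f.v ((h).map ι) :=
      pullback.lift ((h).map (pullback.fst a ι) ≫ w) ((h).map (pullback.snd a ι)) (by
        rw [Category.assoc, ← ha]
        exact sqh.w)
    have hw₀1 : w₀ ≫ pullback.fst f.v ((h).map ι) = (h).map (pullback.fst a ι) ≫ w := pullback.lift_fst _ _ _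
    have hw₀2 : w₀ ≫ pullback.snd f.v ((h).map ι) = (h).map (pullback.snd a ι) := pullback.lift_snd _ _ _
    have sqw : IsPullback ((h).map (pullback.fst a ι)) w₀ w (pullback.fst f.v ((h).map ι)) := by
      refine IsPullback.of_bot ?_ hw₀1.symm (IsPullback.of_hasPullback f.v ((h).map ι))
      rw [hw₀2, ← ha]
      exact sqh
    have hw₀ : AlgSp.RepWith @Etale w₀ := (AlgSp.RepWith @Etale).of_isPullback sqw hw
    have hw₀' : AlgSp.RepWith @Surjective w₀ := (AlgSp.RepWith @Surjective).of_isPullback sqw hw'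
    have hsm : Smooth (pullback.fst a ι ≫ b).left := by
      have he : IsOpenImmersion (pullback.fst a ι).left :=
        MorphismProperty.of_isPullback (P := @IsOpenImmersion) (sq.map (Over.forget S)).flip hι
      change Smooth ((pullback.fst a ι).left ≫ b.left)
      rw [← Scheme.Hom.smoothLocus_eq_top_iff, eq_top_iff]
      intro z _
      rw [mem_smoothLocus_comp_iff]
      have h1 : a.left ((pullback.fst a ι).left z) = V0.ι ((pullback.snd a ι).left z) := by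
        change ((pullback.fst a ι) ≫ a).left z = ((pullback.snd a ι) ≫ ι).left z
        rw [sq.w]
      obtain ⟨ω₁, hω₁, hω₁'⟩ := ((pullback.snd a ι).left z).2
      exact mem_smoothLocus' hx₁ hf C₀ C₀ ω₁ ((pullback.fst a ι).left z) (hω₁'.trans h1.symm) hω₁
    have hloc : AlgSp.LocP @Smooth f₀.u := by
      rw [hf₀u]
      refine K597.locP_of_chart K597.etLoc_smooth _ w₀ (𝟙 _) (pullback.fst a ι ≫ b) hw₀ hw₀' (AlgSp.repWith_id _ U) ?_ hsm
      rw [Category.comp_id, ← Category.assoc, hw₀1, Category.assoc, ← hb, Functor.map_comp]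
    exact K734.Rep.nice_smooth.of_cover (hy' ι hι) (AlgSp.IsAlgSpace.yon_obj U) x hx₁ hx₂ hx₃
      (isRep_of_isFP (hy' ι hι) hf₀) hloc
  · intro F' f' hf' C' hC' ω' hω'
    obtain ⟨e, he⟩ := hf'.unique hf
    have heu : f'.u = e.hom ≫ f.u := (congrArg Tr.u he).symm
    have hev : f'.v = e.hom ≫ f.v := (congrArg Tr.v he).symm
    have hC₁b : (h).map C'.b = (C'.w ≫ e.hom) ≫ f.u := by rw [C'.hb, heu, Category.assoc]
    have hC₁a : (h).map C'.a = (C'.w ≫ e.hom) ≫ f.v := by rw [C'.ha, hev, Category.assoc]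
    let C₁ : Ch f := ⟨C'.W, C'.w ≫ e.hom,
      (MorphismProperty.cancel_right_of_respectsIso (AlgSp.RepWith @Etale) C'.w e.hom).2 C'.he, C'.b, hC₁b, C'.a,
      hC₁a, hC'⟩
    obtain ⟨T, p, q, sq, hq⟩ := K597.exists_sq2 hw' (C'.w ≫ e.hom)
    obtain ⟨z, rfl⟩ := hq.surj ω'
    have hpq : p ≫ a = q ≫ C'.a := by
      apply (h).map_injective
      rw [Functor.map_comp, Functor.map_comp, ha, hC₁a, ← Category.assoc, sq.w, Category.assoc]
    have h1 : C'.a.left (q.left z) = a.left (p.left z) :=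
      (congrArg (fun k : T ⟶ V => k.left z) hpq).symm
    have h2 := mem_smoothLocus' hx₁ hf C₁ C₀ (q.left z) (p.left z) h1 hω'
    rw [h1]
    exact ⟨p.left z, h2, rfl⟩

end

/-- The two-sided chart data of an equivalence from a sheaf to `U ×_𝒳 V`. -/
theorem exists_isFP_of_fp {U V : Over S} (x : FibCat.overCat U ⥤ᵇ 𝒳) (y : FibCat.overCat V ⥤ᵇ 𝒳) {F : AlgSp.Sp S}
    (e : AlgSt.ofSp F ⥤ᵇ FibCat.fp x y) (he : FibCat.IsEquivOver e) :
    ∃ f : Tr (BasedFunctor.comp (AlgSt.toOverCat U) x) (BasedFunctor.comp (AlgSt.toOverCat V) y) F,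
      f.u = AlgSt.spMapOfOver (BasedFunctor.comp e (FibCat.fpFst x y)) ∧
      f.v = AlgSt.spMapOfOver (BasedFunctor.comp e (FibCat.fpSnd x y)) ∧ IsFP f := by
  obtain ⟨α⟩ := K735.Rep.exists_iso_spMapOfOver (BasedFunctor.comp e (FibCat.fpFst x y))
  obtain ⟨β⟩ := K735.Rep.exists_iso_spMapOfOver (BasedFunctor.comp e (FibCat.fpSnd x y))
  let e₁ : AlgSt.ofSp F ⥤ᵇ FibCat.fp (BasedFunctor.comp (AlgSt.toOverCat U) x) y :=
    BasedFunctor.comp e (fpPreL (AlgSt.ofOverCat U) (BasedFunctor.comp (AlgSt.toOverCat U) x) y)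
  have he₁ : FibCat.IsEquivOver e₁ :=
    isEquivOver_comp he (isEquivOver_fpPreL _ (K735.Rep.isEquivOver_ofOverCat U) (BasedFunctor.comp (AlgSt.toOverCat U) x) y)
  let e₂ : AlgSt.ofSp F ⥤ᵇ FibCat.fp (BasedFunctor.comp (AlgSt.toOverCat U) x) (BasedFunctor.comp (AlgSt.toOverCat V) y) :=
    BasedFunctor.comp e₁ (fpPreR (BasedFunctor.comp (AlgSt.toOverCat U) x) (AlgSt.ofOverCat V) (BasedFunctor.comp (AlgSt.toOverCat V) y))
  have he₂ : FibCat.IsEquivOver e₂ :=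
    isEquivOver_comp he₁ (isEquivOver_fpPreR (BasedFunctor.comp (AlgSt.toOverCat U) x) (AlgSt.ofOverCat V)
      (K735.Rep.isEquivOver_ofOverCat V) (BasedFunctor.comp (AlgSt.toOverCat V) y))
  exact exists_isFP_of_equiv e₂ he₂ (wr α (AlgSt.ofOverCat U)) (wr β (AlgSt.ofOverCat V))

/-- **The smooth locus of a chart.** -/
theorem exists_smooth_open {U V : Over S} (x : FibCat.overCat U ⥤ᵇ 𝒳) (y : FibCat.overCat V ⥤ᵇ 𝒳)
    (hx₁ : AlgSt.RepByAlgSpWith (AlgSp.LocP @Flat) x)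
    (hx₂ : AlgSt.RepByAlgSpWith (AlgSp.LocP @LocallyOfFinitePresentation) x)
    (hx₃ : AlgSt.RepByAlgSpWith AlgSp.IsSurjectiveMor x)
    (hy : AlgSt.RepByAlgSpWith (AlgSp.LocP @LocallyOfFinitePresentation) y) :
    ∃ V0 : V.left.Opens,
      AlgSt.RepByAlgSpWith (AlgSp.LocP @Smooth)
        (BasedFunctor.comp (AlgSt.overMap (Over.homMk V0.ι : Over.mk (V0.ι ≫ V.hom) ⟶ V)) y) ∧
      ∀ (F : AlgSp.Sp S) (e : AlgSt.ofSp F ⥤ᵇ FibCat.fp x y) (_ : FibCat.IsEquivOver e) (W : Over S)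
        (j : (AlgSp.yon S).obj W ⟶ F) (_ : AlgSp.RepWith @Etale j) (a : W ⟶ V) (b : W ⟶ U)
        (_ : (AlgSp.yon S).map a = j ≫ AlgSt.spMapOfOver (BasedFunctor.comp e (FibCat.fpSnd x y)))
        (_ : (AlgSp.yon S).map b = j ≫ AlgSt.spMapOfOver (BasedFunctor.comp e (FibCat.fpFst x y)))
        [LocallyOfFinitePresentation b.left] (ω : W.left), ω ∈ b.left.smoothLocus → a.left ω ∈ V0 := by
  obtain ⟨V0, h1, h2⟩ := exists_smooth_open_aux (x := BasedFunctor.comp (AlgSt.toOverCat U) x)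
    (y := BasedFunctor.comp (AlgSt.toOverCat V) y) ((K741.repByAlgSpWith_toOverCat _ x).1 hx₁)
    ((K741.repByAlgSpWith_toOverCat _ x).1 hx₂) ((K741.repByAlgSpWith_toOverCat _ x).1 hx₃)
    ((K741.repByAlgSpWith_toOverCat _ y).1 hy) (by
      intro V₀ ι hι
      have h3 := K743.Comp.locP_overMap_comp (P := @LocallyOfFinitePresentation) K597.etLoc_lfp ι inferInstance y hy
      exact K735.Rep.repByAlgSp1_of_with ((K741.repByAlgSpWith_toOverCat _ _).1 h3))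
  refine ⟨V0, (K741.repByAlgSpWith_toOverCat _ _).2 h1, ?_⟩
  intro F e he W j hj a b ha hb hl ω hω
  obtain ⟨f, hfu, hfv, hf⟩ := exists_isFP_of_fp x y e he
  exact h2 hf ⟨W, j, hj, b, by rw [hfu]; exact hb, a, by rw [hfv]; exact ha, hl⟩ ω hω

end K628.SmLoc
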