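import Groth.Agent.AlgSp.K628.Artin.Tr
import Groth.Agent.AlgSp.K597.EtLoc
import Groth.Agent.S2155

/-!
# Smoothness at a point is independent of the point of the fibre (helper628)

`mem_smoothLocus_comp_iff` : the smooth locus and étale morphisms on the source;
`SmData.mem_smoothLocus` : `W₁, W₂ → V ×_𝒳 U` étale charts, `U → 𝒳` flat, `ω₁, ω₂` with the same image in `V`,
`W₁ → U` smooth at `ω₁` ⇒ `W₂ → U` smooth at `ω₂`.
-/

set_option autoImplicit false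
set_option backward.isDefEq.respectTransparency false
set_option backward.isDefEq.respectTransparency.types false

universe w v u

open CategoryTheory CategoryTheory.Limits Opposite AlgebraicGeometry K734.Fib

namespace K628.SmLoc

section Scheme

/-- the smooth locus and étale morphisms on the source -/
theorem mem_smoothLocus_comp_iff {X Y Z : Scheme.{u}} (g : X ⟶ Y) [Etale g] (f : Y ⟶ Z)
    [LocallyOfFinitePresentation f] (x : X) : x ∈ (g ≫ f).smoothLocus ↔ g x ∈ f.smoothLocus := by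
  constructor
  · intro hx
    let O : X.Opens := (g ≫ f).smoothLocus
    let Q : Y.Opens := ⟨g '' (O : Set X), g.isOpenMap _ O.2⟩
    let l : O.toScheme ⟶ Q.toScheme := IsOpenImmersion.lift Q.ι (O.ι ≫ g) (by
      rintro _ ⟨z, rfl⟩
      rw [Scheme.Opens.range_ι]
      exact ⟨O.ι z, z.2, rfl⟩)
    have hl : l ≫ Q.ι = O.ι ≫ g := IsOpenImmersion.lift_fac _ _ _
    have hle : Etale l := by
      have : Etale (l ≫ Q.ι) := by rw [hl]; infer_instance
      exact Etale.of_comp l Q.ι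
    have hO : Smooth (O.ι ≫ g ≫ f) := by
      rw [← Scheme.Hom.smoothLocus_eq_top_iff, ← Scheme.Hom.preimage_smoothLocus_eq]
      rw [eq_top_iff]
      intro z _
      exact z.2
    have hQ : Smooth (Q.ι ≫ f) := by
      refine K597.etLoc_smooth.descend' (Q.ι ≫ f) fun b => ⟨O.toScheme, l, hle, ?_, ?_⟩
      · obtain ⟨b, z, hz, rfl⟩ := b
        refine ⟨⟨z, hz⟩, Q.ι.isOpenEmbedding.injective ?_⟩
        rw [← Scheme.Hom.comp_apply, hl]
        rfl
      · have h1 : l ≫ Q.ι ≫ f = O.ι ≫ g ≫ f := by rw [← Category.assoc, hl, Category.assoc]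
        rw [h1]
        exact hO
    have h2 := Scheme.Hom.preimage_smoothLocus_eq Q.ι f
    rw [Scheme.Hom.smoothLocus_eq_top (Q.ι ≫ f)] at h2
    have h3 : (⟨g x, x, hx, rfl⟩ : Q) ∈ Q.ι ⁻¹ᵁ f.smoothLocus := by rw [h2]; trivial
    exact h3
  · intro hx
    let O : X.Opens := g ⁻¹ᵁ f.smoothLocus
    have h1 : O.ι ≫ g ≫ f = (g ∣_ f.smoothLocus) ≫ f.smoothLocus.ι ≫ f := by
      rw [← Category.assoc, ← Category.assoc, morphismRestrict_ι]
    have h0 : Smooth (f.smoothLocus.ι ≫ f) := by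
      rw [← Scheme.Hom.smoothLocus_eq_top_iff, ← Scheme.Hom.preimage_smoothLocus_eq]
      rw [eq_top_iff]
      intro z _
      exact z.2
    have h2 : Smooth (O.ι ≫ g ≫ f) := by
      rw [h1]
      infer_instance
    have h3 := Scheme.Hom.preimage_smoothLocus_eq O.ι (g ≫ f)
    rw [Scheme.Hom.smoothLocus_eq_top (O.ι ≫ g ≫ f)] at h3
    have h4 : (⟨x, hx⟩ : O) ∈ O.ι ⁻¹ᵁ (g ≫ f).smoothLocus := by rw [h3]; trivial
    exact h4

end Scheme

theorem Tr.inv_mul_inv_mul {S : Scheme.{u}} {𝒳 : BasedCategory.{v, w} (Over S)} {X Y Z : AlgSp.Sp S}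
    {x : AlgSt.ofSp X ⥤ᵇ 𝒳} {y : AlgSt.ofSp Y ⥤ᵇ 𝒳} {z : AlgSt.ofSp Z ⥤ᵇ 𝒳} {G : AlgSp.Sp S}
    (t : Tr x y G) (t' : Tr z y G) (h : t.v = t'.v) : (t.mul t'.inv h).inv.mul t rfl = t' := by
  obtain ⟨u, v, i⟩ := t
  obtain ⟨u', v', i'⟩ := t'
  dsimp only at h
  subst h
  apply Tr.ext
  · rfl
  · rfl
  · apply heq_of_eq
    change (i ≪≫ Iso.refl _ ≪≫ i'.symm).symm ≪≫ Iso.refl _ ≪≫ i = i'
    ext1
    simp

/-- the data -/
structure SmData {S : Scheme.{u}} {𝒳 : BasedCategory.{v, w} (Over S)} {U V : Over S}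
    (x : AlgSt.ofSp ((AlgSp.yon S).obj U) ⥤ᵇ 𝒳) (y : AlgSt.ofSp ((AlgSp.yon S).obj V) ⥤ᵇ 𝒳) where
  F : AlgSp.Sp S
  f : Tr x y F
  hf : IsFP f
  R : AlgSp.Sp S
  r : Tr x x R
  hr : IsFP r
  R' : Over S
  ρ : (AlgSp.yon S).obj R' ⟶ R
  he : AlgSp.RepWith @Etale ρ
  hsurj : AlgSp.RepWith @Surjective ρ
  s : R' ⟶ U
  hs : (AlgSp.yon S).map s = ρ ≫ r.u
  t : R' ⟶ U
  ht : (AlgSp.yon S).map t = ρ ≫ r.v
  flat_s : Flat s.left
  flat_t : Flat t.left

/-- an étale chart -/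
structure Ch {S : Scheme.{u}} {𝒳 : BasedCategory.{v, w} (Over S)} {U V : Over S}
    {x : AlgSt.ofSp ((AlgSp.yon S).obj U) ⥤ᵇ 𝒳} {y : AlgSt.ofSp ((AlgSp.yon S).obj V) ⥤ᵇ 𝒳}
    {F : AlgSp.Sp S} (f : Tr x y F) where
  W : Over S
  w : (AlgSp.yon S).obj W ⟶ F
  he : AlgSp.RepWith @Etale w
  b : W ⟶ U
  hb : (AlgSp.yon S).map b = w ≫ f.u
  a : W ⟶ V
  ha : (AlgSp.yon S).map a = w ≫ f.v
  lfp : LocallyOfFinitePresentation b.left

/-- constructor of pullback squares -/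
theorem isPullback_mk {C : Type*} [Category C] {P X Y Z : C} {fst : P ⟶ X} {snd : P ⟶ Y} {f : X ⟶ Z} {g : Y ⟶ Z}
    (w : fst ≫ f = snd ≫ g)
    (H : ∀ (G : C) (α : G ⟶ X) (β : G ⟶ Y), α ≫ f = β ≫ g → ∃ l : G ⟶ P, l ≫ fst = α ∧ l ≫ snd = β)
    (H' : ∀ (G : C) (l l' : G ⟶ P), l ≫ fst = l' ≫ fst → l ≫ snd = l' ≫ snd → l = l') : IsPullback fst snd f g := by
  choose l h1 h2 using H
  refine ⟨⟨w⟩, ⟨PullbackCone.IsLimit.mk w (fun s => l s.pt s.fst s.snd s.condition) (fun s => h1 _ _ _ _)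
    (fun s => h2 _ _ _ _) (fun s m e1 e2 => H' _ _ _ ?_ ?_)⟩⟩
  · rw [e1, h1]
  · rw [e2, h2]

section claim

variable {S : Scheme.{u}} {𝒳 : BasedCategory.{v, w} (Over S)} {U V : Over S}
  {x : AlgSt.ofSp ((AlgSp.yon S).obj U) ⥤ᵇ 𝒳} {y : AlgSt.ofSp ((AlgSp.yon S).obj V) ⥤ᵇ 𝒳}

local notation "h" => AlgSp.yon S

/-- The scheme `T'` with étale maps to `W₁ ×_U R'` and `W₂ ×_U R'`. -/
theorem exists_T (D : SmData x y) (C₁ C₂ : Ch D.f) :
    ∃ (T' : Over S) (p₁ : T' ⟶ C₁.W) (p₂ : T' ⟶ C₂.W) (c : T' ⟶ D.R')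
      (e₁ : p₁ ≫ C₁.b = c ≫ D.s) (e₂ : p₂ ≫ C₂.b = c ≫ D.t),
      Etale (pullback.lift (f := C₁.b) (g := D.s) p₁ c e₁).left ∧
      Etale (pullback.lift (f := C₂.b) (g := D.t) p₂ c e₂).left ∧
      ∀ (ω₁ : C₁.W.left) (ω₂ : C₂.W.left), C₁.a.left ω₁ = C₂.a.left ω₂ →
        ∃ θ : T'.left, p₁.left θ = ω₁ ∧ p₂.left θ = ω₂ := by
  -- `m₁`
  have hm₁ : ((D.r.pull ((h).map (pullback.snd C₁.b D.s) ≫ D.ρ)).inv).v =
      (D.f.pull ((h).map (pullback.fst C₁.b D.s) ≫ C₁.w)).u := by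
    rw [Tr.inv_v, Tr.pull_u, Tr.pull_u, Category.assoc, Category.assoc, ← D.hs, ← C₁.hb, ← Functor.map_comp,
      ← Functor.map_comp, pullback.condition]
  obtain ⟨m₁, hm₁'⟩ := D.hf.exists_lift ((D.r.pull ((h).map (pullback.snd C₁.b D.s) ≫ D.ρ)).inv.mul
    (D.f.pull ((h).map (pullback.fst C₁.b D.s) ≫ C₁.w)) hm₁)
  have hm₁u : m₁ ≫ D.f.u = (h).map (pullback.snd C₁.b D.s ≫ D.t) := by
    have := congrArg Tr.u hm₁'
    rw [Tr.pull_u, Tr.mul_u, Tr.inv_u, Tr.pull_v, Category.assoc, ← D.ht, ← Functor.map_comp] at this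
    exact this
  obtain ⟨T', p₂, g₁, sq, hg₁⟩ := K597.exists_sq2 C₂.he m₁
  have e₂ : p₂ ≫ C₂.b = (g₁ ≫ pullback.snd C₁.b D.s) ≫ D.t := by
    apply (h).map_injective
    rw [Functor.map_comp, C₂.hb, ← Category.assoc, sq.w, Category.assoc, hm₁u, ← Functor.map_comp, Category.assoc]
  have e₁ : (g₁ ≫ pullback.fst C₁.b D.s) ≫ C₁.b = (g₁ ≫ pullback.snd C₁.b D.s) ≫ D.s := by
    rw [Category.assoc, Category.assoc, pullback.condition]
  have hg₁' : pullback.lift (f := C₁.b) (g := D.s) (g₁ ≫ pullback.fst C₁.b D.s) (g₁ ≫ pullback.snd C₁.b D.s) e₁ = g₁ := by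
    apply pullback.hom_ext
    · rw [pullback.lift_fst]
    · rw [pullback.lift_snd]
  -- `m₂`
  have hm₂ : (D.r.pull ((h).map (pullback.snd C₂.b D.t) ≫ D.ρ)).v =
      (D.f.pull ((h).map (pullback.fst C₂.b D.t) ≫ C₂.w)).u := by
    rw [Tr.pull_v, Tr.pull_u, Category.assoc, Category.assoc, ← D.ht, ← C₂.hb, ← Functor.map_comp,
      ← Functor.map_comp, pullback.condition]
  obtain ⟨m₂, hm₂'⟩ := D.hf.exists_lift ((D.r.pull ((h).map (pullback.snd C₂.b D.t) ≫ D.ρ)).mul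
    (D.f.pull ((h).map (pullback.fst C₂.b D.t) ≫ C₂.w)) hm₂)
  let g₂ := pullback.lift (f := C₂.b) (g := D.t) p₂ (g₁ ≫ pullback.snd C₁.b D.s) e₂
  have hg₂f : g₂ ≫ pullback.fst C₂.b D.t = p₂ := pullback.lift_fst _ _ _
  have hg₂s : g₂ ≫ pullback.snd C₂.b D.t = g₁ ≫ pullback.snd C₁.b D.s := pullback.lift_snd _ _ _
  have sqX₁ : IsPullback ((h).map (pullback.fst C₁.b D.s)) ((h).map (pullback.snd C₁.b D.s)) ((h).map C₁.b) ((h).map D.s) :=
    (IsPullback.of_hasPullback C₁.b D.s).map _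
  have sqX₂ : IsPullback ((h).map (pullback.fst C₂.b D.t)) ((h).map (pullback.snd C₂.b D.t)) ((h).map C₂.b) ((h).map D.t) :=
    (IsPullback.of_hasPullback C₂.b D.t).map _
  -- general computations of `m₁`, `m₂` on points
  have key₁ : ∀ {G : AlgSp.Sp S} (ξ : G ⟶ (h).obj (pullback C₁.b D.s)) (α : G ⟶ (h).obj C₁.W) (β : G ⟶ (h).obj D.R')
      (_ : ξ ≫ (h).map (pullback.fst C₁.b D.s) = α) (_ : ξ ≫ (h).map (pullback.snd C₁.b D.s) = β),
      ∃ hh, D.f.pull (ξ ≫ m₁) = (D.r.pull (β ≫ D.ρ)).inv.mul (D.f.pull (α ≫ C₁.w)) hh := by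
    intro G ξ α β hα hβ
    subst hα hβ
    refine ⟨?_, ?_⟩
    · have := congrArg (fun k => ξ ≫ k) hm₁
      simpa using this
    · rw [← Tr.pull_pull, hm₁', Tr.mul_pull]
      refine Tr.mul_congr _ ?_ ?_
      · rw [← Tr.inv_pull, Tr.pull_pull, Category.assoc]
      · rw [Tr.pull_pull, Category.assoc]
  have key₂ : ∀ {G : AlgSp.Sp S} (ξ : G ⟶ (h).obj (pullback C₂.b D.t)) (α : G ⟶ (h).obj C₂.W) (β : G ⟶ (h).obj D.R')
      (_ : ξ ≫ (h).map (pullback.fst C₂.b D.t) = α) (_ : ξ ≫ (h).map (pullback.snd C₂.b D.t) = β),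
      ∃ hh, D.f.pull (ξ ≫ m₂) = (D.r.pull (β ≫ D.ρ)).mul (D.f.pull (α ≫ C₂.w)) hh := by
    intro G ξ α β hα hβ
    subst hα hβ
    refine ⟨?_, ?_⟩
    · have := congrArg (fun k => ξ ≫ k) hm₂
      simpa using this
    · rw [← Tr.pull_pull, hm₂', Tr.mul_pull]
      refine Tr.mul_congr _ ?_ ?_
      · rw [Tr.pull_pull, Category.assoc]
      · rw [Tr.pull_pull, Category.assoc]
  -- the second square
  have comm₂ : (h).map (g₁ ≫ pullback.fst C₁.b D.s) ≫ C₁.w = (h).map g₂ ≫ m₂ := by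
    apply D.hf.ext
    obtain ⟨hh, e⟩ := key₂ ((h).map g₂) ((h).map p₂) ((h).map (g₁ ≫ pullback.snd C₁.b D.s))
      (by rw [← Functor.map_comp, hg₂f]) (by rw [← Functor.map_comp, hg₂s])
    rw [e]
    obtain ⟨hh', e'⟩ := key₁ ((h).map g₁) ((h).map (g₁ ≫ pullback.fst C₁.b D.s)) ((h).map (g₁ ≫ pullback.snd C₁.b D.s))
      (by rw [← Functor.map_comp]) (by rw [← Functor.map_comp])
    rw [← sq.w] at e'
    have e3 := Tr.mul_congr hh rfl e'
    rw [e3, Tr.mul_inv_mul]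
  have sq₂ : IsPullback ((h).map (g₁ ≫ pullback.fst C₁.b D.s)) ((h).map g₂) C₁.w m₂ := by
    refine isPullback_mk comm₂ ?_ ?_
    · intro G α β hαβ
      obtain ⟨hh, e⟩ := key₂ β (β ≫ (h).map (pullback.fst C₂.b D.t)) (β ≫ (h).map (pullback.snd C₂.b D.t)) rfl rfl
      have hc : α ≫ (h).map C₁.b = (β ≫ (h).map (pullback.snd C₂.b D.t)) ≫ (h).map D.s := by
        have h1 := congrArg Tr.u e
        rw [Tr.pull_u, Tr.mul_u, Tr.pull_u, ← hαβ] at h1
        rw [C₁.hb, ← Category.assoc, h1, Category.assoc _ D.ρ, ← D.hs]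
      let ξ := sqX₁.lift α (β ≫ (h).map (pullback.snd C₂.b D.t)) hc
      have hξ1 : ξ ≫ (h).map (pullback.fst C₁.b D.s) = α := sqX₁.lift_fst _ _ _
      have hξ2 : ξ ≫ (h).map (pullback.snd C₁.b D.s) = β ≫ (h).map (pullback.snd C₂.b D.t) := sqX₁.lift_snd _ _ _
      obtain ⟨hh', e'⟩ := key₁ ξ α (β ≫ (h).map (pullback.snd C₂.b D.t)) hξ1 hξ2
      have hcond : (β ≫ (h).map (pullback.fst C₂.b D.t)) ≫ C₂.w = ξ ≫ m₁ := by
        apply D.hf.ext
        rw [← hαβ] at e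
        rw [e', Tr.mul_congr hh' rfl e, Tr.inv_mul_mul]
      refine ⟨sq.lift (β ≫ (h).map (pullback.fst C₂.b D.t)) ξ hcond, ?_, ?_⟩
      · rw [Functor.map_comp, ← Category.assoc, sq.lift_snd, hξ1]
      · apply sqX₂.hom_ext
        · rw [Category.assoc, ← Functor.map_comp, hg₂f, sq.lift_fst]
        · rw [Category.assoc, ← Functor.map_comp, hg₂s, Functor.map_comp, ← Category.assoc, sq.lift_snd, hξ2]
    · intro G l l' h1 h2
      apply sq.hom_ext
      · have := congrArg (fun k => k ≫ (h).map (pullback.fst C₂.b D.t)) h2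
        simpa only [Category.assoc, ← Functor.map_comp, hg₂f] using this
      · apply sqX₁.hom_ext
        · simpa only [Category.assoc, ← Functor.map_comp] using h1
        · have := congrArg (fun k => k ≫ (h).map (pullback.snd C₂.b D.t)) h2
          simpa only [Category.assoc, ← Functor.map_comp, hg₂s] using this
  refine ⟨T', g₁ ≫ pullback.fst C₁.b D.s, p₂, g₁ ≫ pullback.snd C₁.b D.s, e₁, e₂, ?_, ?_, ?_⟩
  · rw [hg₁']
    exact hg₁
  · exact K597.repWith_prop C₁.he sq₂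
  · intro ω₁ ω₂ hω
    let T := pullback C₁.a C₂.a
    obtain ⟨τ, hτ₁, hτ₂⟩ : ∃ τ : T.left, (pullback.fst C₁.a C₂.a).left τ = ω₁ ∧ (pullback.snd C₁.a C₂.a).left τ = ω₂ := by
      have sqT := (IsPullback.of_hasPullback C₁.a C₂.a).map (Over.forget S)
      obtain ⟨τ, h1, h2⟩ := Scheme.exists_preimage_of_isPullback sqT ω₁ ω₂ hω
      exact ⟨τ, h1, h2⟩
    have hn : (D.f.pull ((h).map (pullback.fst C₁.a C₂.a) ≫ C₁.w)).v =
        (D.f.pull ((h).map (pullback.snd C₁.a C₂.a) ≫ C₂.w)).v := by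
      rw [Tr.pull_v, Tr.pull_v, Category.assoc, Category.assoc, ← C₁.ha, ← C₂.ha, ← Functor.map_comp,
        ← Functor.map_comp, pullback.condition]
    obtain ⟨n, hn'⟩ := D.hr.exists_lift ((D.f.pull ((h).map (pullback.fst C₁.a C₂.a) ≫ C₁.w)).mul
      (D.f.pull ((h).map (pullback.snd C₁.a C₂.a) ≫ C₂.w)).inv hn)
    obtain ⟨T'', c, d, sqd, hd⟩ := K597.exists_sq2 D.hsurj n
    obtain ⟨τ'', rfl⟩ := hd.surj τ
    have hnu : n ≫ D.r.u = (h).map (pullback.fst C₁.a C₂.a ≫ C₁.b) := by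
      have := congrArg Tr.u hn'
      rw [Tr.pull_u, Tr.mul_u, Tr.pull_u, Category.assoc, ← C₁.hb, ← Functor.map_comp] at this
      exact this
    have hcd : (d ≫ pullback.fst C₁.a C₂.a) ≫ C₁.b = c ≫ D.s := by
      apply (h).map_injective
      have q1 : (h).map (c ≫ D.s) = (h).map c ≫ D.ρ ≫ D.r.u := by rw [Functor.map_comp, D.hs]
      have q2 : (h).map c ≫ D.ρ ≫ D.r.u = (h).map d ≫ n ≫ D.r.u := by
        rw [← Category.assoc, ← Category.assoc, sqd.w]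
      rw [q1, q2, hnu, ← Functor.map_comp, Category.assoc]
    let ε : T'' ⟶ pullback C₁.b D.s := pullback.lift (d ≫ pullback.fst C₁.a C₂.a) c hcd
    have hε1 : ε ≫ pullback.fst C₁.b D.s = d ≫ pullback.fst C₁.a C₂.a := pullback.lift_fst _ _ _
    have hε2 : ε ≫ pullback.snd C₁.b D.s = c := pullback.lift_snd _ _ _
    obtain ⟨hh, e⟩ := key₁ ((h).map ε) ((h).map (d ≫ pullback.fst C₁.a C₂.a)) ((h).map c)
      (by rw [← Functor.map_comp, hε1]) (by rw [← Functor.map_comp, hε2])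
    have hcond : (h).map (d ≫ pullback.snd C₁.a C₂.a) ≫ C₂.w = (h).map ε ≫ m₁ := by
      apply D.hf.ext
      have e4 : D.r.pull ((h).map c ≫ D.ρ) = (D.f.pull ((h).map (d ≫ pullback.fst C₁.a C₂.a) ≫ C₁.w)).mul
          (D.f.pull ((h).map (d ≫ pullback.snd C₁.a C₂.a) ≫ C₂.w)).inv (by
            have := congrArg (fun k => (h).map d ≫ k) hn
            simpa using this) := by
        rw [sqd.w, ← Tr.pull_pull, hn', Tr.mul_pull]
        refine Tr.mul_congr _ ?_ ?_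
        · rw [Tr.pull_pull, Functor.map_comp, Category.assoc]
        · rw [← Tr.inv_pull, Tr.pull_pull, Functor.map_comp, Category.assoc]
      rw [e, Tr.mul_congr hh (congrArg Tr.inv e4) rfl, Tr.inv_mul_inv_mul]
    obtain ⟨l, hl⟩ := (h).map_surjective (sq.lift ((h).map (d ≫ pullback.snd C₁.a C₂.a)) ((h).map ε) hcond)
    have hl1 : l ≫ p₂ = d ≫ pullback.snd C₁.a C₂.a := (h).map_injective (by
      rw [Functor.map_comp, hl, sq.lift_fst])
    have hl2 : l ≫ g₁ = ε := (h).map_injective (by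
      rw [Functor.map_comp, hl, sq.lift_snd])
    refine ⟨l.left τ'', ?_, ?_⟩
    · have h1 : l ≫ g₁ ≫ pullback.fst C₁.b D.s = d ≫ pullback.fst C₁.a C₂.a := by
        rw [← Category.assoc, hl2, hε1]
      rw [← hτ₁]
      exact congrArg (fun k : T'' ⟶ C₁.W => k.left τ'') h1
    · rw [← hτ₂]
      exact congrArg (fun k : T'' ⟶ C₂.W => k.left τ'') hl1

theorem mem_smoothLocus_congr {X Y : Scheme.{u}} {f g : X ⟶ Y} [LocallyOfFinitePresentation f]
    [LocallyOfFinitePresentation g] (e : f = g) {x : X} (hx : x ∈ f.smoothLocus) : x ∈ g.smoothLocus := by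
  subst e
  exact hx

/-- smoothness at a point only depends on the image in `V` -/
theorem mem_smoothLocus (D : SmData x y) (C₁ C₂ : Ch D.f) [LocallyOfFinitePresentation C₁.b.left]
    [LocallyOfFinitePresentation C₂.b.left] (ω₁ : C₁.W.left) (ω₂ : C₂.W.left)
    (hω : C₁.a.left ω₁ = C₂.a.left ω₂) (h1 : ω₁ ∈ C₁.b.left.smoothLocus) : ω₂ ∈ C₂.b.left.smoothLocus := by
  obtain ⟨T', p₁, p₂, c, e₁, e₂, h₁, h₂, H⟩ := exists_T D C₁ C₂
  obtain ⟨θ, hθ₁, hθ₂⟩ := H ω₁ ω₂ hω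
  have := D.flat_s
  have := D.flat_t
  have sq₁ := (IsPullback.of_hasPullback C₁.b D.s).map (Over.forget S)
  have sq₂ := (IsPullback.of_hasPullback C₂.b D.t).map (Over.forget S)
  have l₁ : LocallyOfFinitePresentation (pullback.snd C₁.b D.s).left :=
    MorphismProperty.of_isPullback (P := @LocallyOfFinitePresentation) sq₁ ‹LocallyOfFinitePresentation C₁.b.left›
  have l₂ : LocallyOfFinitePresentation (pullback.snd C₂.b D.t).left :=
    MorphismProperty.of_isPullback (P := @LocallyOfFinitePresentation) sq₂ ‹LocallyOfFinitePresentation C₂.b.left›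
  have k₁ := Groth.Agent.S2155.result C₁.b.left D.s.left (pullback.snd C₁.b D.s).left
    (pullback.fst C₁.b D.s).left sq₁ (Or.inr D.flat_s)
  have k₂ := Groth.Agent.S2155.result C₂.b.left D.t.left (pullback.snd C₂.b D.t).left
    (pullback.fst C₂.b D.t).left sq₂ (Or.inr D.flat_t)
  set g₁ := pullback.lift (f := C₁.b) (g := D.s) p₁ c e₁
  set g₂ := pullback.lift (f := C₂.b) (g := D.t) p₂ c e₂
  have f₁ : g₁ ≫ pullback.fst C₁.b D.s = p₁ := pullback.lift_fst _ _ _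
  have f₂ : g₂ ≫ pullback.fst C₂.b D.t = p₂ := pullback.lift_fst _ _ _
  have s₁ : g₁ ≫ pullback.snd C₁.b D.s = c := pullback.lift_snd _ _ _
  have s₂ : g₂ ≫ pullback.snd C₂.b D.t = c := pullback.lift_snd _ _ _
  have m₁ : g₁.left θ ∈ (pullback.snd C₁.b D.s).left.smoothLocus := by
    rw [k₁]
    change (pullback.fst C₁.b D.s).left (g₁.left θ) ∈ C₁.b.left.smoothLocus
    have : (pullback.fst C₁.b D.s).left (g₁.left θ) = ω₁ := by
      rw [← hθ₁, ← f₁]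
      rfl
    rw [this]
    exact h1
  have m₂ : θ ∈ (g₁.left ≫ (pullback.snd C₁.b D.s).left).smoothLocus :=
    (mem_smoothLocus_comp_iff _ _ _).2 m₁
  have m₃ : θ ∈ (g₂.left ≫ (pullback.snd C₂.b D.t).left).smoothLocus := by
    refine mem_smoothLocus_congr ?_ m₂
    rw [← Over.comp_left, ← Over.comp_left, s₁, s₂]
  have m₄ : g₂.left θ ∈ (pullback.snd C₂.b D.t).left.smoothLocus :=
    (mem_smoothLocus_comp_iff _ _ _).1 m₃
  rw [k₂] at m₄
  have m₅ : (pullback.fst C₂.b D.t).left (g₂.left θ) ∈ C₂.b.left.smoothLocus := m₄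
  have : (pullback.fst C₂.b D.t).left (g₂.left θ) = ω₂ := by
    rw [← hθ₂, ← f₂]
    rfl
  rw [this] at m₅
  exact m₅

end claim

end K628.SmLoc
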