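import Groth.Agent.AlgSt.K734.RepSp
import Groth.Agent.AlgSt.K734.FibFp

/-!
# Functor of points of a 2-fibre product of two functors from sheaf categories (helper628)

`Tr x y G` : triples `(u : G ⟶ X, v : G ⟶ Y, x u ≅ y v)`; `IsFP f` : `f : Tr x y F` is universal.
`Tr.mul`, `Tr.inv` : composition and inversion; `exists_isFP` : existence from `IsRep`.
-/

set_option autoImplicit false
set_option backward.isDefEq.respectTransparency false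
set_option backward.isDefEq.respectTransparency.types false

universe w v u

open CategoryTheory CategoryTheory.Limits Opposite AlgebraicGeometry K734.Fib

namespace K628.SmLoc

variable {S : Scheme.{u}} {𝒳 : BasedCategory.{v, w} (Over S)}

/-- triples -/
@[ext]
structure Tr {X Y : AlgSp.Sp S} (x : AlgSt.ofSp X ⥤ᵇ 𝒳) (y : AlgSt.ofSp Y ⥤ᵇ 𝒳) (G : AlgSp.Sp S) where
  u : G ⟶ X
  v : G ⟶ Y
  i : BasedFunctor.comp (AlgSt.ofSpMap u) x ≅ BasedFunctor.comp (AlgSt.ofSpMap v) y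

namespace Tr

variable {X Y Z : AlgSp.Sp S} {x : AlgSt.ofSp X ⥤ᵇ 𝒳} {y : AlgSt.ofSp Y ⥤ᵇ 𝒳} {z : AlgSt.ofSp Z ⥤ᵇ 𝒳}
  {G G' G'' : AlgSp.Sp S}

/-- restriction -/
def pull (ξ : G' ⟶ G) (t : Tr x y G) : Tr x y G' where
  u := ξ ≫ t.u
  v := ξ ≫ t.v
  i := wl (F := BasedFunctor.comp (AlgSt.ofSpMap t.u) x) (G := BasedFunctor.comp (AlgSt.ofSpMap t.v) y)
    (AlgSt.ofSpMap ξ) t.i

@[simp] theorem pull_u (ξ : G' ⟶ G) (t : Tr x y G) : (t.pull ξ).u = ξ ≫ t.u := rfl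
@[simp] theorem pull_v (ξ : G' ⟶ G) (t : Tr x y G) : (t.pull ξ).v = ξ ≫ t.v := rfl

theorem pull_pull (ξ : G' ⟶ G) (ξ' : G'' ⟶ G') (t : Tr x y G) : (t.pull ξ).pull ξ' = t.pull (ξ' ≫ ξ) := rfl

/-- inverse -/
def inv (t : Tr x y G) : Tr y x G := ⟨t.v, t.u, t.i.symm⟩

@[simp] theorem inv_u (t : Tr x y G) : t.inv.u = t.v := rfl
@[simp] theorem inv_v (t : Tr x y G) : t.inv.v = t.u := rfl

theorem inv_inv (t : Tr x y G) : t.inv.inv = t := rfl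

theorem inv_pull (ξ : G' ⟶ G) (t : Tr x y G) : (t.pull ξ).inv = t.inv.pull ξ := by
  apply Tr.ext
  · rfl
  · rfl
  · apply heq_of_eq
    apply iso_ext₂
    intro w
    rfl

/-- composition -/
def mul (t : Tr x y G) (t' : Tr y z G) (h : t.v = t'.u) : Tr x z G where
  u := t.u
  v := t'.v
  i := t.i ≪≫ eqToIso (by rw [h]) ≪≫ t'.i

@[simp] theorem mul_u (t : Tr x y G) (t' : Tr y z G) (h : t.v = t'.u) : (t.mul t' h).u = t.u := rfl
@[simp] theorem mul_v (t : Tr x y G) (t' : Tr y z G) (h : t.v = t'.u) : (t.mul t' h).v = t'.v := rfl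

theorem mul_pull (ξ : G' ⟶ G) (t : Tr x y G) (t' : Tr y z G) (h : t.v = t'.u) :
    (t.mul t' h).pull ξ = (t.pull ξ).mul (t'.pull ξ) (by rw [pull_v, pull_u, h]) := by
  obtain ⟨u, v, i⟩ := t
  obtain ⟨u', v', i'⟩ := t'
  dsimp only at h
  subst h
  apply Tr.ext
  · rfl
  · rfl
  · apply heq_of_eq
    apply iso_ext₂
    intro w
    rfl

theorem inv_mul_mul (t : Tr x y G) (t' : Tr y z G) (h : t.v = t'.u) :
    t.inv.mul (t.mul t' h) rfl = t' := by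
  obtain ⟨u, v, i⟩ := t
  obtain ⟨u', v', i'⟩ := t'
  dsimp only at h
  subst h
  apply Tr.ext
  · rfl
  · rfl
  · apply heq_of_eq
    change i.symm ≪≫ Iso.refl _ ≪≫ (i ≪≫ Iso.refl _ ≪≫ i') = i'
    ext1
    simp

theorem mul_inv_mul (t : Tr x y G) (t' : Tr x z G) (h : t.u = t'.u) :
    t.mul (t.inv.mul t' h) rfl = t' := by
  obtain ⟨u, v, i⟩ := t
  obtain ⟨u', v', i'⟩ := t'
  dsimp only at h
  subst h
  apply Tr.ext
  · rfl
  · rfl
  · apply heq_of_eq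
    change i ≪≫ Iso.refl _ ≪≫ (i.symm ≪≫ Iso.refl _ ≪≫ i') = i'
    ext1
    simp

theorem mul_mul_inv (t : Tr x y G) (t' : Tr z y G) (h : t.v = t'.v) :
    (t.mul t'.inv h).mul t' rfl = t := by
  obtain ⟨u, v, i⟩ := t
  obtain ⟨u', v', i'⟩ := t'
  dsimp only at h
  subst h
  apply Tr.ext
  · rfl
  · rfl
  · apply heq_of_eq
    change (i ≪≫ Iso.refl _ ≪≫ i'.symm) ≪≫ Iso.refl _ ≪≫ i' = i
    ext1
    simp

theorem mul_congr {t₁ t₂ : Tr x y G} {t₁' t₂' : Tr y z G} (h : t₁.v = t₁'.u) (e : t₁ = t₂) (e' : t₁' = t₂') :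
    t₁.mul t₁' h = t₂.mul t₂' (by rw [← e, ← e', h]) := by
  subst e e'
  rfl

end Tr

variable {X Y : AlgSp.Sp S} {x : AlgSt.ofSp X ⥤ᵇ 𝒳} {y : AlgSt.ofSp Y ⥤ᵇ 𝒳}

/-- `f` is universal -/
def IsFP {F : AlgSp.Sp S} (f : Tr x y F) : Prop :=
  ∀ (G : AlgSp.Sp S) (t : Tr x y G), ∃! ξ : G ⟶ F, f.pull ξ = t

theorem IsFP.ext {F : AlgSp.Sp S} {f : Tr x y F} (hf : IsFP f) {G : AlgSp.Sp S} {ξ ξ' : G ⟶ F}
    (h : f.pull ξ = f.pull ξ') : ξ = ξ' :=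
  (hf G (f.pull ξ')).unique h rfl

theorem IsFP.exists_lift {F : AlgSp.Sp S} {f : Tr x y F} (hf : IsFP f) {G : AlgSp.Sp S} (t : Tr x y G) :
    ∃ ξ : G ⟶ F, f.pull ξ = t := (hf G t).exists

/-- two universal triples -/
theorem IsFP.unique {F F' : AlgSp.Sp S} {f : Tr x y F} (hf : IsFP f) {f' : Tr x y F'} (hf' : IsFP f') :
    ∃ e : F ≅ F', f'.pull e.hom = f := by
  obtain ⟨a, ha⟩ := hf'.exists_lift f
  obtain ⟨b, hb⟩ := hf.exists_lift f'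
  refine ⟨⟨a, b, ?_, ?_⟩, ha⟩
  · apply hf.ext
    rw [← Tr.pull_pull, hb, ha]
    rfl
  · apply hf'.ext
    rw [← Tr.pull_pull, ha, hb]
    rfl

/-- vertical endomorphisms in the category of a sheaf -/
theorem ofSp_iso_eq {F G : AlgSp.Sp S} {a b : F ⟶ G} (e : AlgSt.ofSpMap a ≅ AlgSt.ofSpMap b) (h : a = b)
    (w : (AlgSt.ofSp F).obj) : (app e w).hom = eqToHom (by rw [h]) := by
  subst h
  rw [eqToHom_refl]
  apply Stk.EltObj.hom_ext
  exact (app_vert e w).map_eq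

/-- Isomorphic functors to the 2-fibre product come from equal triples. -/
theorem eq_of_lift_iso {G : AlgSp.Sp S} (t t' : Tr x y G)
    (e : FibCat.fpLift (AlgSt.ofSpMap t.u) (AlgSt.ofSpMap t.v) t.i ≅
      FibCat.fpLift (AlgSt.ofSpMap t'.u) (AlgSt.ofSpMap t'.v) t'.i) : t = t' := by
  obtain ⟨u, v, i⟩ := t
  obtain ⟨u', v', i'⟩ := t'
  have h1 : u = u' := K734.Rep.ofSpMap_inj (wr e (FibCat.fpFst x y))
  have h2 : v = v' := K734.Rep.ofSpMap_inj (wr e (FibCat.fpSnd x y))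
  subst h1 h2
  apply Tr.ext
  · rfl
  · rfl
  · apply heq_of_eq
    apply iso_ext₂
    intro w
    have h3 := homFp_w (app e w).hom
    have h4 : ((app e w).hom.hom.fst) = 𝟙 _ := by
      have := ofSp_iso_eq (wr e (FibCat.fpFst x y)) rfl w
      rw [eqToHom_refl] at this
      exact this
    have h5 : ((app e w).hom.hom.snd) = 𝟙 _ := by
      have := ofSp_iso_eq (wr e (FibCat.fpSnd x y)) rfl w
      rw [eqToHom_refl] at this
      exact this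
    rw [h4, h5] at h3
    have h6 : x.map (𝟙 ((AlgSt.ofSpMap u).obj w)) = 𝟙 _ := x.toFunctor.map_id _
    have h7 : y.map (𝟙 ((AlgSt.ofSpMap v).obj w)) = 𝟙 _ := y.toFunctor.map_id _
    have h8 : x.map (𝟙 ((AlgSt.ofSpMap u).obj w)) ≫ (app i' w).hom = (app i w).hom ≫ y.map (𝟙 ((AlgSt.ofSpMap v).obj w)) := h3
    rw [h6, h7] at h8
    have h9 : (app i' w).hom = 𝟙 _ ≫ (app i' w).hom := (Category.id_comp _).symm
    have h10 : (app i w).hom = (app i w).hom ≫ 𝟙 _ := (Category.comp_id _).symm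
    rw [h9, h10]
    exact h8.symm

theorem isFP_of_isEquivOver {F : AlgSp.Sp S} (f : Tr x y F)
    (h : FibCat.IsEquivOver (FibCat.fpLift (AlgSt.ofSpMap f.u) (AlgSt.ofSpMap f.v) f.i)) : IsFP f := by
  intro G t
  obtain ⟨k, -, ⟨α⟩, ⟨β⟩⟩ := exists_inverse h
  obtain ⟨ξ, ⟨γ⟩⟩ := K734.Rep.exists_ofSpMap
    (BasedFunctor.comp (FibCat.fpLift (AlgSt.ofSpMap t.u) (AlgSt.ofSpMap t.v) t.i) k)
  refine ⟨ξ, ?_, ?_⟩
  · apply eq_of_lift_iso
    have e1 := wr γ.symm (FibCat.fpLift (AlgSt.ofSpMap f.u) (AlgSt.ofSpMap f.v) f.i)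
    have e2 := wl (FibCat.fpLift (AlgSt.ofSpMap t.u) (AlgSt.ofSpMap t.v) t.i) β
    exact e1.trans e2
  · intro ξ' h'
    apply K734.Rep.ofSpMap_inj
    subst h'
    have e1 := wl (AlgSt.ofSpMap ξ') α
    exact (e1.symm.trans γ : _)

/-- The universal triple of an equivalence to the 2-fibre product. -/
theorem exists_isFP_of_equiv {F : AlgSp.Sp S} (e : AlgSt.ofSp F ⥤ᵇ FibCat.fp x y) (he : FibCat.IsEquivOver e)
    {π : F ⟶ X} {a : F ⟶ Y} (α : BasedFunctor.comp e (FibCat.fpFst x y) ≅ AlgSt.ofSpMap π)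
    (β : BasedFunctor.comp e (FibCat.fpSnd x y) ≅ AlgSt.ofSpMap a) :
    ∃ f : Tr x y F, f.u = π ∧ f.v = a ∧ IsFP f := by
  let i : BasedFunctor.comp (AlgSt.ofSpMap π) x ≅ BasedFunctor.comp (AlgSt.ofSpMap a) y :=
    wr α.symm x ≪≫ wl e (FibCat.fpIso x y) ≪≫ wr β y
  refine ⟨⟨π, a, i⟩, rfl, rfl, isFP_of_isEquivOver _ ?_⟩
  refine isEquivOver_of_iso ?_ he
  refine liftExt α β ?_
  intro w
  change x.map (app α w).hom ≫ (app i w).hom = _
  simp only [i, trans_app, Iso.trans_hom, wr_app, wl_app]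
  have h1 : x.map (app α w).hom ≫ x.map (app α w).inv = 𝟙 _ := by
    rw [← x.toFunctor.map_comp, Iso.hom_inv_id]
    exact x.toFunctor.map_id _
  change x.map (app α w).hom ≫ (x.map (app α w).inv ≫ (app (FibCat.fpIso x y) (e.obj w)).hom ≫ y.map (app β w).hom) = _
  rw [← Category.assoc, h1, Category.id_comp]
  rfl

/-- Existence of the universal triple. -/
theorem exists_isFP {F : AlgSp.Sp S} {π : F ⟶ X} (h : K734.Rep.IsRep y x π) :
    ∃ f : Tr x y F, f.u = π ∧ IsFP f := by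
  obtain ⟨e, he, ⟨α⟩⟩ := h
  obtain ⟨a, ⟨β⟩⟩ := K734.Rep.exists_ofSpMap (BasedFunctor.comp e (FibCat.fpSnd x y))
  obtain ⟨f, h1, -, h2⟩ := exists_isFP_of_equiv e he α β
  exact ⟨f, h1, h2⟩

theorem IsFP.inv {F : AlgSp.Sp S} {f : Tr x y F} (hf : IsFP f) : IsFP f.inv := by
  intro G t
  obtain ⟨ξ, h1, h2⟩ := hf G t.inv
  refine ⟨ξ, ?_, ?_⟩
  · change f.inv.pull ξ = t
    rw [← Tr.inv_pull, h1, Tr.inv_inv]
  · intro ξ' h'
    apply h2
    change f.inv.pull ξ' = t at h'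
    rw [← Tr.inv_pull] at h'
    rw [← h', Tr.inv_inv]

/-- composition with a map of sheaves on the right -/
def Tr.post {Y' : AlgSp.Sp S} {j : Y' ⟶ Y} {G : AlgSp.Sp S} (t : Tr x (BasedFunctor.comp (AlgSt.ofSpMap j) y) G) :
    Tr x y G := ⟨t.u, t.v ≫ j, t.i⟩

theorem Tr.post_pull {Y' : AlgSp.Sp S} {j : Y' ⟶ Y} {G G' : AlgSp.Sp S}
    (t : Tr x (BasedFunctor.comp (AlgSt.ofSpMap j) y) G) (ξ : G' ⟶ G) : (t.pull ξ).post = t.post.pull ξ := rfl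

theorem Tr.post_inj {Y' : AlgSp.Sp S} {j : Y' ⟶ Y} {G : AlgSp.Sp S}
    {t t' : Tr x (BasedFunctor.comp (AlgSt.ofSpMap j) y) G} (h : t.post = t'.post) (hv : t.v = t'.v) : t = t' := by
  obtain ⟨u, v, i⟩ := t
  obtain ⟨u', v', i'⟩ := t'
  dsimp only at hv
  subst hv
  have h1 := congrArg Tr.u h
  change u = u' at h1
  subst h1
  have h2 := h
  simp only [Tr.post, Tr.mk.injEq, heq_eq_eq, true_and] at h2
  apply Tr.ext
  · rfl
  · rfl
  · exact heq_of_eq h2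

theorem Tr.exists_post {Y' : AlgSp.Sp S} {j : Y' ⟶ Y} {G : AlgSp.Sp S} (t : Tr x y G) (p : G ⟶ Y') (h : p ≫ j = t.v) :
    ∃ t' : Tr x (BasedFunctor.comp (AlgSt.ofSpMap j) y) G, t'.post = t ∧ t'.v = p := by
  obtain ⟨u, v, i⟩ := t
  dsimp only at h
  subst h
  exact ⟨⟨u, p, i⟩, rfl, rfl⟩

/-- Base change of the universal triple along `j : Y' ⟶ Y`. -/
theorem IsFP.exists_bc {F : AlgSp.Sp S} {f : Tr x y F} (hf : IsFP f) {Y' F' : AlgSp.Sp S} {j : Y' ⟶ Y}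
    {fst : F' ⟶ F} {snd : F' ⟶ Y'} (sq : IsPullback fst snd f.v j) :
    ∃ f' : Tr x (BasedFunctor.comp (AlgSt.ofSpMap j) y) F', f'.u = fst ≫ f.u ∧ f'.v = snd ∧ IsFP f' := by
  obtain ⟨f', h1, h2⟩ := Tr.exists_post (f.pull fst) snd sq.w.symm
  refine ⟨f', congrArg Tr.u h1, h2, ?_⟩
  intro G t
  obtain ⟨ξ, hξ, hξ'⟩ := hf G t.post
  have h3 : ξ ≫ f.v = t.v ≫ j := congrArg Tr.v hξ
  refine ⟨sq.lift ξ t.v h3, ?_, ?_⟩
  · apply Tr.post_inj
    · rw [Tr.post_pull, h1, Tr.pull_pull, sq.lift_fst]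
      exact hξ
    · rw [Tr.pull_v, h2, sq.lift_snd]
  · intro ξ' h'
    change f'.pull ξ' = t at h'
    apply sq.hom_ext
    · rw [sq.lift_fst]
      apply hξ'
      rw [← Tr.pull_pull, ← h1, ← Tr.post_pull, h']
    · rw [sq.lift_snd, ← h', Tr.pull_v, h2]

end K628.SmLoc
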